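import Cfsg.Agent.ReeG2.UMul
import Cfsg.Agent.ChevTw.TwG2Thms
import Cfsg.Agent.ChevTwOrd.G2

/-!
The torus, unipotent elements and Bruhat decomposition of `²G₂(q)` (owner: helper34).
-/

set_option autoImplicit false

namespace Cfsg.Agent.ReeG2

open Cfsg.Lie Cfsg.Agent.ChevGrp Cfsg.Agent.ChevTw

variable (K : Type*) [Field K]

/-- The system of root elements. -/
noncomputable abbrev GS : Sys chevG2 K (GL chevG2.Idx K) := glSys (ChevTw.rulesG2 K)

/-- The length function of the root table. -/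
noncomputable def lenG : ℕ → ℕ := (ChevTw.rulesG2 K).root.choose

theorem hRG : RootTable chevG2 (lenG K) := (ChevTw.rulesG2 K).root.choose_spec

/-- The parameters of the fixed torus. -/
def torParam (m : ℕ) : Kˣ →* (Fin chevG2.rank → Kˣ) where
  toFun x := mkG2 (x ^ 3 ^ m) x
  map_one' := funext (forallG2.2 ⟨by simp [mkG2], by simp [mkG2]⟩)
  map_mul' a b := funext (forallG2.2 ⟨by simp [mkG2, mul_pow], by simp [mkG2]⟩)

/-- The torus of `²G₂`. -/
noncomputable def tor (m : ℕ) : Kˣ →* GL chevG2.Idx K :=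
  ((GS K).tau (ChevTw.rulesG2 K) (hRG K) (glSys_HMul (ChevTw.rulesG2 K) (hRG K))).comp (torParam K m)

/-- The unipotent element. -/
noncomputable abbrev uEl (m : ℕ) (t u v : K) : GL chevG2.Idx K := reeEl (GS K) (3 ^ m) t u v

theorem tor_mem_diag (m : ℕ) (x : Kˣ) : tor K m x ∈ (GS K).Hbar := by
  rw [← (GS K).tau_range (ChevTw.rulesG2 K) (hRG K) (glSys_HMul (ChevTw.rulesG2 K) (hRG K))]
  exact ⟨torParam K m x, rfl⟩

theorem tor_conj_x (m : ℕ) (x : Kˣ) {r : ℕ} (hr : r < chevG2.nroots) (t : K) :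
    tor K m x * (GS K).x r t * (tor K m x)⁻¹ = (GS K).x r
      (((x ^ (((3 ^ m : ℕ) : ℤ) * chevG2.cartan 0 r + chevG2.cartan 1 r) : Kˣ) : K) * t) := by
  refine (Cfsg.Agent.ChevTwOrd.tau_conj (ChevTw.rulesG2 K) (hRG K) _ _ r hr t).trans ?_
  congr 3
  show (∏ j : Fin 2, mkG2 (x ^ 3 ^ m) x j ^ chevG2.cartan j r) = _
  rw [Fin.prod_univ_two, zpow_add, zpow_mul, zpow_natCast]
  rfl

section
variable [Fintype K] {m : ℕ} (hK : Fintype.card K = 3 ^ (2 * m + 1))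
include hK

theorem unit_pow_q (x : Kˣ) : x ^ (3 * 3 ^ m * 3 ^ m) = x := units_pow_twiceG2 hK x

theorem tor_mem_Tw (x : Kˣ) : tor K m x ∈ twistedG2 K (3 ^ m) :=
  tau_mem_G2 hK (hRG K) (mkG2_fixed hK x)

theorem tor_injective : Function.Injective (tor K m) := by
  rw [injective_iff_map_eq_one]
  intro x hx
  have h1 := ((GS K).θ_tau_eq_one_iff (ChevTw.rulesG2 K) (hRG K) (glSys_HMul (ChevTw.rulesG2 K) (hRG K))
    (torParam K m x)).1 (show (GS K).θ (tor K m x) = 1 by rw [hx, map_one])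
  rw [rootKer_G2 K, Subgroup.mem_bot] at h1
  exact congrFun h1 ⟨1, by decide⟩

/-- The torus. -/
theorem diag_eq : chevG2.diagonalSubgroup K ⊓ twistedG2 K (3 ^ m) = (tor K m).range := by
  have hle : (tor K m).range ≤ chevG2.diagonalSubgroup K ⊓ twistedG2 K (3 ^ m) := by
    rintro _ ⟨x, rfl⟩
    rw [diagonalSubgroup_eq (ChevTw.rulesG2 K) (hRG K)]
    exact Subgroup.mem_inf.2 ⟨tor_mem_diag K m x, tor_mem_Tw K hK x⟩
  refine (Subgroup.eq_of_le_of_card_ge hle ?_).symm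
  rw [thm_S1114 hK, ← Nat.card_congr (MonoidHom.ofInjective (tor_injective K hK)).toEquiv,
    Nat.card_units, Nat.card_eq_fintype_card, hK]

theorem uEl_mul (t u v t' u' v' : K) :
    uEl K m t u v * uEl K m t' u' v' = uEl K m (t + t') (u + u' - (t' ^ (3 ^ m)) ^ 3 * t)
      (v + v' - (t' ^ (3 ^ m)) ^ 3 * t ^ 2 - t' * u + (t' ^ (3 ^ m)) ^ 3 * t * t') := by
  haveI := charG2 hK
  exact reeEl_mul (GS K) (pow_twice hK) t u v t' u' v'

theorem uEl_inj {t u v t' u' v' : K} (e : uEl K m t u v = uEl K m t' u' v') :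
    t = t' ∧ u = u' ∧ v = v' := by
  haveI := charG2 hK
  exact reeEl_inj e

theorem uEl_one : uEl K m (0 : K) 0 0 = 1 := reeEl_one (GS K) (pow_ne_zero m three_ne_zero)

theorem uEl_eq_one {t u v : K} (e : uEl K m t u v = 1) : t = 0 ∧ u = 0 ∧ v = 0 :=
  uEl_inj K hK (e.trans (uEl_one K hK).symm)

/-- The unipotent group. -/
theorem mem_U_iff (g : GL chevG2.Idx K) :
    g ∈ chevG2.posUnipotent K ⊓ twistedG2 K (3 ^ m) ↔ ∃ t u v : K, g = uEl K m t u v := by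
  haveI := charG2 hK
  rw [posUnipotentG2_iff hK]
  simp only [eq_reeEl_iff]

theorem uEl_mem (t u v : K) : uEl K m t u v ∈ chevG2.posUnipotent K ⊓ twistedG2 K (3 ^ m) :=
  (mem_U_iff K hK _).2 ⟨t, u, v, rfl⟩

/-- Conjugation of the unipotent elements by the torus. -/
theorem tor_conj_uEl (x : Kˣ) (t u v : K) :
    tor K m x * uEl K m t u v * (tor K m x)⁻¹ =
      uEl K m (((x ^ (2 - 3 * ((3 ^ m : ℕ) : ℤ)) : Kˣ) : K) * t)
        (((x ^ (3 * ((3 ^ m : ℕ) : ℤ) - 1) : Kˣ) : K) * u) ((x : K) * v) := by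
  have hc : [7, 6, 8, 9, 10, 11].map (fun r => (chevG2.cartan 0 r, chevG2.cartan 1 r)) =
      [(2, -1), (-3, 2), (-1, 1), (1, 0), (3, -1), (0, 1)] := charG2data.2.2.2.2.2.2.2
  simp only [List.map_cons, List.map_nil, List.cons.injEq, Prod.mk.injEq, and_true] at hc
  obtain ⟨⟨a1, a2⟩, ⟨b1, b2⟩, ⟨c1, c2⟩, ⟨d1, d2⟩, ⟨x1, x2⟩, ⟨y1, y2⟩⟩ := hc
  set e : ℤ := ((3 ^ m : ℕ) : ℤ) with he
  have hq' : x ^ (3 * e * e) = x := by
    rw [he, show (3 : ℤ) * ((3 ^ m : ℕ) : ℤ) * ((3 ^ m : ℕ) : ℤ) = ((3 * 3 ^ m * 3 ^ m : ℕ) : ℤ) by push_cast; ring,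
      zpow_natCast, unit_pow_q K hK]
  have hP : ∀ (z : ℤ) (k : ℕ), (((x ^ z : Kˣ) : K)) ^ k = ((x ^ (z * k) : Kˣ) : K) := fun z k => by
    rw [zpow_mul, zpow_natCast, Units.val_pow_eq_pow_val]
  have conj : ∀ a b : GL chevG2.Idx K, tor K m x * (a * b) * (tor K m x)⁻¹ =
      (tor K m x * a * (tor K m x)⁻¹) * (tor K m x * b * (tor K m x)⁻¹) := fun a b => by simp [mul_assoc]
  simp only [uEl, reeEl, uSix, qPart]
  rw [conj, conj, conj, conj, conj, tor_conj_x K m x (by decide), tor_conj_x K m x (by decide),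
    tor_conj_x K m x (by decide), tor_conj_x K m x (by decide), tor_conj_x K m x (by decide),
    tor_conj_x K m x (by decide), a1, a2, b1, b2, c1, c2, d1, d2, x1, x2, y1, y2, ← he]
  haveI := charG2 hK
  haveI : Fact (Nat.Prime 3) := ⟨Nat.prime_three⟩
  have hadd : ∀ a b : K, (a + b) ^ (3 ^ m) = a ^ (3 ^ m) + b ^ (3 ^ m) := fun a b => add_pow_char_pow a b 3 m
  refine congrArg₂ (· * ·) ?_ (congrArg₂ (· * ·) ?_ (congrArg₂ (· * ·) ?_ (congrArg₂ (· * ·) ?_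
    (congrArg₂ (· * ·) ?_ ?_))))
  · congr 1
    rw [mul_pow, hP, show (2 - 3 * e) * ((3 ^ m : ℕ) : ℤ) = e * 2 + -1 + -(3 * e * e - 1) by rw [← he]; ring,
      zpow_add x (e * 2 + -1), zpow_neg x (3 * e * e - 1), zpow_sub, hq', zpow_one, mul_inv_cancel, inv_one,
      mul_one]
  · congr 1
    rw [show e * -3 + 2 = 2 - 3 * e by ring]
  · congr 1
    rw [pow_succ, pow_succ, mul_pow, mul_pow, hP, hP, mul_add]
    congr 1
    · rw [show e * -1 + 1 = (2 - 3 * e) * e + (2 - 3 * e) + (3 * e * e - 1) by ring,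
        zpow_add x ((2 - 3 * e) * e + (2 - 3 * e)), zpow_sub, hq', zpow_one, mul_inv_cancel, mul_one,
        zpow_add, Units.val_mul, ← he]
      ring
    · rw [show e * -1 + 1 = (3 * e - 1) * e + -(3 * e * e - 1) by ring, zpow_add, zpow_neg, zpow_sub, hq',
        zpow_one, mul_inv_cancel, inv_one, mul_one, ← he]
  · congr 1
    rw [pow_succ, pow_succ, mul_pow, mul_pow, mul_add]
    congr 1
    · rw [hP, show e * 1 + 0 = (2 - 3 * e) * ((2 * 3 ^ m : ℕ) : ℤ) + (2 - 3 * e) + 2 * (3 * e * e - 1) by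
          rw [he]; push_cast; ring,
        zpow_add x ((2 - 3 * e) * _ + (2 - 3 * e)), mul_comm (2 : ℤ) (3 * e * e - 1), zpow_mul, zpow_sub, hq',
        zpow_one, mul_inv_cancel, one_zpow, mul_one, zpow_add, Units.val_mul]
      ring
    · rw [mul_one, add_zero, he, zpow_natCast, Units.val_pow_eq_pow_val]
  · congr 1
    rw [show e * 3 + -1 = 3 * e - 1 by ring]
  · congr 1
    rw [mul_zero, zero_add, zpow_one]

/-- A torus element fixing a non-trivial unipotent element. -/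
theorem fix_cases {x : Kˣ} {t u v : K} (h : tor K m x * uEl K m t u v = uEl K m t u v * tor K m x) :
    (x ≠ 1 → t = 0 ∧ v = 0) ∧ (x * x ≠ 1 → u = 0) := by
  have e : tor K m x * uEl K m t u v * (tor K m x)⁻¹ = uEl K m t u v := by rw [h, mul_inv_cancel_right]
  rw [tor_conj_uEl K hK] at e
  obtain ⟨ht, hu, hv⟩ := uEl_inj K hK e
  set n : ℤ := ((3 ^ m : ℕ) : ℤ) with hn
  have hq' : x ^ (3 * n * n) = x := by
    rw [hn, show (3 : ℤ) * ((3 ^ m : ℕ) : ℤ) * ((3 ^ m : ℕ) : ℤ) = ((3 * 3 ^ m * 3 ^ m : ℕ) : ℤ) by push_cast; ring,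
      zpow_natCast, unit_pow_q K hK]
  have key : ∀ (z : Kˣ) (a : K), ((z : K) * a = a) → a ≠ 0 → z = 1 := fun z a hz ha =>
    Units.ext (mul_right_cancel₀ ha (hz.trans (one_mul a).symm))
  refine ⟨fun hx => ⟨?_, ?_⟩, fun hx => ?_⟩
  · by_contra ht0
    have h1 := key _ _ ht ht0
    apply hx
    have h2 : x ^ ((2 - 3 * n) * (2 + 3 * n)) = 1 := by rw [zpow_mul, h1, one_zpow]
    rw [show (2 - 3 * n) * (2 + 3 * n) = 1 + (-3) * (3 * n * n - 1) by ring, zpow_add, zpow_one,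
      mul_comm (-3 : ℤ), zpow_mul, zpow_sub, hq', zpow_one, mul_inv_cancel, one_zpow, mul_one] at h2
    exact h2
  · by_contra hv0
    exact hx (key _ _ hv hv0)
  · by_contra hu0
    have h1 := key _ _ hu hu0
    apply hx
    have h2 : x ^ ((3 * n - 1) * (3 * n + 1)) = 1 := by rw [zpow_mul, h1, one_zpow]
    rw [show (3 * n - 1) * (3 * n + 1) = 1 + 1 + 3 * (3 * n * n - 1) by ring, zpow_add, zpow_add, zpow_one,
      mul_comm (3 : ℤ) (3 * n * n - 1), zpow_mul, zpow_sub, hq', zpow_one, mul_inv_cancel, one_zpow, mul_one] at h2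
    exact h2

/-- The involution of the torus commutes with the elements `x(0, u, 0)`. -/
theorem negOne_commute (u : K) : Commute (tor K m (-1)) (uEl K m 0 u 0) := by
  have h := tor_conj_uEl K hK (-1) 0 u 0
  have e : ((-1 : Kˣ) ^ (3 * ((3 ^ m : ℕ) : ℤ) - 1)) = 1 := by
    refine Even.neg_one_zpow ?_
    have : Odd ((3 ^ m : ℕ) : ℤ) := by exact_mod_cast Odd.pow (by decide)
    obtain ⟨k, hk⟩ := this
    exact ⟨3 * k + 1, by omega⟩
  rw [e, mul_zero, mul_zero, Units.val_one, one_mul] at h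
  exact mul_inv_eq_iff_eq_mul.1 h

/-- The representative of the orbit word. -/
noncomputable def nG : GL chevG2.Idx K :=
  (grpG2 hK).nJ (ChevTw.rulesG2 K) (hRG K) ⟨0, by decide⟩

theorem nG_mem : nG K hK ∈ twistedG2 K (3 ^ m) :=
  ((grpG2 hK).nJ_spec (ChevTw.rulesG2 K) (hRG K) _).2.2

theorem nG_spec : nG K hK ∈ (GS K).Nbar ∧ (GS K).ConjP (nG K hK) (twG2.wJ chevG2 ⟨0, by decide⟩) :=
  ⟨((grpG2 hK).nJ_spec (ChevTw.rulesG2 K) (hRG K) _).1, ((grpG2 hK).nJ_spec (ChevTw.rulesG2 K) (hRG K) _).2.1⟩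

theorem nG_conj_U {g : GL chevG2.Idx K} (hg : g ∈ (GS K).Ubar) : nG K hK * g * (nG K hK)⁻¹ ∈ (GS K).Vbar := by
  have hneg : ∀ r < chevG2.nroots, chevG2.IsPosRoot r →
      chevG2.IsNegRoot (act chevG2 (twG2.wJ chevG2 ⟨0, by decide⟩) r) := by decide +kernel
  refine (GS K).US_mono ?_ (conjP_mem_US (nG_spec K hK).2 (fun r hr => hr.1) hg)
  rintro _ ⟨r, hr, rfl⟩
  exact hneg r hr.1 hr

theorem nG_conj_tor (x : Kˣ) : ∃ y, nG K hK * tor K m x * (nG K hK)⁻¹ = tor K m y := by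
  have h : nG K hK * tor K m x * (nG K hK)⁻¹ ∈ chevG2.diagonalSubgroup K ⊓ twistedG2 K (3 ^ m) := by
    rw [diagonalSubgroup_eq (ChevTw.rulesG2 K) (hRG K)]
    exact Subgroup.mem_inf.2 ⟨ChevTw.Sys.conj_mem_Hbar (ChevTw.rulesG2 K) (hRG K) (nG_spec K hK).1
      (tor_mem_diag K m x), mul_mem (mul_mem (nG_mem K hK) (tor_mem_Tw K hK x)) (inv_mem (nG_mem K hK))⟩
  rw [diag_eq K hK] at h
  obtain ⟨y, hy⟩ := h
  exact ⟨y, hy.symm⟩

theorem nG_conj_negOne : nG K hK * tor K m (-1) * (nG K hK)⁻¹ = tor K m (-1) := by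
  haveI := charG2 hK
  obtain ⟨y, hy⟩ := nG_conj_tor K hK (-1)
  rw [hy]
  congr 1
  have h2 : tor K m (y * y) = tor K m 1 := by
    rw [map_mul, ← hy, map_one]
    have e : tor K m (-1) * tor K m (-1) = 1 := by rw [← map_mul, neg_mul_neg, one_mul, map_one]
    calc _ = nG K hK * (tor K m (-1) * tor K m (-1)) * (nG K hK)⁻¹ := by simp [mul_assoc]
      _ = _ := by rw [e, mul_one, mul_inv_cancel]
  have hy1 : y ≠ 1 := by
    intro h
    rw [h, map_one, mul_inv_eq_one, mul_eq_left] at hy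
    have h1 := tor_injective K hK (hy.trans (map_one _).symm)
    have h2 : (-1 : K) = 1 := by simpa using congrArg (Units.val) h1
    exact (Ring.neg_one_ne_one_of_char_ne_two (R := K) (by rw [ringChar.eq K 3]; decide)) h2
  rcases mul_self_eq_one_iff.1 (show (y : K) * y = 1 by
    simpa using congrArg Units.val (tor_injective K hK h2)) with h | h
  · exact absurd (Units.ext h) hy1
  · exact Units.ext (by simpa using h)

/-- The Borel subgroup. -/
theorem mem_B_iff (g : GL chevG2.Idx K) :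
    g ∈ chevG2.borelSubgroup K ⊓ twistedG2 K (3 ^ m) ↔
      ∃ (t u v : K) (x : Kˣ), g = uEl K m t u v * tor K m x := by
  rw [borelSubgroup_eq (ChevTw.rulesG2 K) (hRG K)]
  constructor
  · intro hg
    obtain ⟨u, hu, h, hh, e⟩ := (grpG2 hK).B_decomp (ChevTw.rulesG2 K) (hRG K)
      ((orbG2 hK).comm_word (hRG K) twG2.longSeq)
      ((twG2_ok.isLongest (T := twistG2 hK) (fun _ => rfl) rfl).invSet_eq (hRG K)) hg.1 hg.2
    obtain ⟨t, u', v, rfl⟩ := (mem_U_iff K hK u).1 (by rw [posUnipotent_eq (ChevTw.rulesG2 K)]; exact hu)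
    have hh' : h ∈ (tor K m).range := by
      rw [← diag_eq K hK, diagonalSubgroup_eq (ChevTw.rulesG2 K) (hRG K)]; exact hh
    obtain ⟨x, rfl⟩ := hh'
    exact ⟨t, u', v, x, e⟩
  · rintro ⟨t, u, v, x, rfl⟩
    have hu := uEl_mem K hK t u v
    rw [posUnipotent_eq (ChevTw.rulesG2 K)] at hu
    exact Subgroup.mem_inf.2 ⟨mul_mem ((GS K).Ubar_le_Bbar hu.1) ((GS K).Hbar_le_Bbar (tor_mem_diag K m x)),
      mul_mem hu.2 (tor_mem_Tw K hK x)⟩

theorem uEl_mem_Ubar (t u v : K) : uEl K m t u v ∈ (GS K).Ubar := by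
  have hu := uEl_mem K hK t u v
  rw [posUnipotent_eq (ChevTw.rulesG2 K)] at hu
  exact hu.1

/-- Bruhat decomposition. -/
theorem bruhat {g : GL chevG2.Idx K} (hg : g ∈ twistedG2 K (3 ^ m)) :
    g ∈ chevG2.borelSubgroup K ⊓ twistedG2 K (3 ^ m) ∨
      ∃ (t u v : K) (x : Kˣ) (t' u' v' : K),
        g = uEl K m t u v * tor K m x * nG K hK * uEl K m t' u' v' := by
  set S := GS K
  have hS := ChevTw.rulesG2 K
  have hR := hRG K
  obtain ⟨b, hb, w, -, y, hy, e⟩ := S.mem_NF hS hR ((grpG2 hK).Tw_le hg)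
  obtain ⟨hwc, hyf, -⟩ := (twistG2 hK).fixed_bruhat hS hR hb hy (by rw [← e]; exact (grpG2 hK).fixed hg)
  obtain ⟨ks, hks⟩ := (orbG2 hK).exists_word hS hR hwc
  have hpar : (∀ r < chevG2.nroots, act chevG2 ((orbG2 hK).word ks) r = r) ∨
      ∀ r < chevG2.nroots, act chevG2 ((orbG2 hK).word ks) r = act chevG2 (twG2.wJ chevG2 ⟨0, by decide⟩) r := by
    clear hks
    induction ks with
    | nil => exact Or.inl fun r _ => rfl
    | cons J ks ih =>
      have hJ : J = ⟨0, by decide⟩ := Subsingleton.elim (α := Fin 1) _ _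
      have hw : (orbG2 hK).word (J :: ks) = twG2.wJ chevG2 J ++ (orbG2 hK).word ks := by
        rw [show J :: ks = [J] ++ ks from rfl, Orbits.word_append, Orbits.word_singleton]
        rfl
      subst hJ
      rcases ih with h | h
      · exact Or.inr fun r hr => by rw [hw, act_append, h r hr]
      · exact Or.inl fun r hr => by rw [hw, act_append, h r hr]; exact twG2_ok.winv _ r hr
  rcases hpar with h | h
  · left
    rw [borelSubgroup_eq hS hR]
    refine Subgroup.mem_inf.2 ⟨?_, hg⟩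
    rw [e]
    have hid : ∀ r, chevG2.IsPosRoot r → act chevG2 w r = r := fun r hr => by rw [hks r hr.1, h r hr.1]
    refine mul_mem (mul_mem hb (S.Hbar_le_Bbar (S.nW_mem_Hbar_of_act hS hR fun r hr => by
      rw [hid r hr]; exact hr))) ?_
    exact S.Ubar_le_Bbar (S.US_mono (fun r hr => hr.1) hy)
  · right
    have hact : ∀ r < chevG2.nroots, act chevG2 w r = act chevG2 (twG2.wJ chevG2 ⟨0, by decide⟩) r :=
      fun r hr => (hks r hr).trans (h r hr)
    have hyU : y ∈ S.Ubar := S.US_mono (fun r hr => hr.1) hy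
    have hy' : y ∈ chevG2.posUnipotent K ⊓ twistedG2 K (3 ^ m) := by
      rw [posUnipotent_eq hS]
      exact ((grpG2 hK).fixUbar_eq hS hR ((orbG2 hK).comm_word hR twG2.longSeq)
        ((twG2_ok.isLongest (T := twistG2 hK) (fun _ => rfl) rfl).invSet_eq hR)).2 ⟨hyU, hyf⟩
    obtain ⟨t', u', v', rfl⟩ := (mem_U_iff K hK y).1 hy'
    obtain ⟨hnN, hnc⟩ := nG_spec K hK
    have hk : S.nW w * (nG K hK)⁻¹ ∈ S.Hbar :=
      TwGroup.mem_Hbar_of_conjP hS hR (mul_mem (S.nW_mem_Nbar w) (inv_mem hnN))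
        ((S.conjP_nW hS hR w).mul hR (hnc.inv hR)) fun r hr => by
          rw [act_append, hact _ (hR.act_lt _ hr), hR.act_act_reverse _ hr]
    have hb' : g * (uEl K m t' u' v')⁻¹ * (nG K hK)⁻¹ ∈ chevG2.borelSubgroup K ⊓ twistedG2 K (3 ^ m) := by
      rw [borelSubgroup_eq hS hR]
      refine Subgroup.mem_inf.2 ⟨?_, mul_mem (mul_mem hg (inv_mem (uEl_mem K hK t' u' v').2))
        (inv_mem (nG_mem K hK))⟩
      rw [e]
      have : b * S.nW w * uEl K m t' u' v' * (uEl K m t' u' v')⁻¹ * (nG K hK)⁻¹ =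
          b * (S.nW w * (nG K hK)⁻¹) := by simp [mul_assoc]
      rw [this]
      exact mul_mem hb (S.Hbar_le_Bbar hk)
    obtain ⟨t, u, v, x, hx⟩ := (mem_B_iff K hK _).1 hb'
    exact ⟨t, u, v, x, t', u', v', by rw [← hx]; simp [mul_assoc]⟩

theorem bruhat_unique {t u v t' u' v' t₁ u₁ v₁ t₁' u₁' v₁' : K} {x x₁ : Kˣ}
    (e : uEl K m t u v * tor K m x * nG K hK * uEl K m t' u' v' =
      uEl K m t₁ u₁ v₁ * tor K m x₁ * nG K hK * uEl K m t₁' u₁' v₁') :
    t = t₁ ∧ u = u₁ ∧ v = v₁ ∧ x = x₁ ∧ t' = t₁' ∧ u' = u₁' ∧ v' = v₁' := by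
  set S := GS K
  have hS := ChevTw.rulesG2 K
  have hR := hRG K
  have h1 : nG K hK * (uEl K m t' u' v' * (uEl K m t₁' u₁' v₁')⁻¹) * (nG K hK)⁻¹ =
      (uEl K m t u v * tor K m x)⁻¹ * (uEl K m t₁ u₁ v₁ * tor K m x₁) := by
    rw [eq_inv_mul_iff_mul_eq]
    calc _ = uEl K m t u v * tor K m x * nG K hK * uEl K m t' u' v' *
          (uEl K m t₁' u₁' v₁')⁻¹ * (nG K hK)⁻¹ := by simp [mul_assoc]
      _ = _ := by rw [e]; simp [mul_assoc]
  have hB : ∀ a b c y, uEl K m a b c * tor K m y ∈ S.Bbar := fun a b c y =>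
    mul_mem (S.Ubar_le_Bbar (uEl_mem_Ubar K hK a b c)) (S.Hbar_le_Bbar (tor_mem_diag K m y))
  have h2 : nG K hK * (uEl K m t' u' v' * (uEl K m t₁' u₁' v₁')⁻¹) * (nG K hK)⁻¹ ∈ S.Vbar ⊓ S.Bbar :=
    Subgroup.mem_inf.2 ⟨nG_conj_U K hK (mul_mem (uEl_mem_Ubar K hK _ _ _) (inv_mem (uEl_mem_Ubar K hK _ _ _))),
      h1 ▸ mul_mem (inv_mem (hB _ _ _ _)) (hB _ _ _ _)⟩
  rw [S.Vbar_inf_Bbar hS hR, Subgroup.mem_bot] at h2
  have h3 := h2
  rw [mul_inv_eq_one, mul_eq_left, mul_inv_eq_one] at h3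
  obtain ⟨a1, a2, a3⟩ := uEl_inj K hK h3
  rw [h2, eq_inv_mul_iff_mul_eq, mul_one] at h1
  obtain ⟨h4, h5⟩ := S.Bbar_decomp_unique hS hR (uEl_mem_Ubar K hK t u v) (uEl_mem_Ubar K hK t₁ u₁ v₁)
    (tor_mem_diag K m x) (tor_mem_diag K m x₁) h1
  obtain ⟨b1, b2, b3⟩ := uEl_inj K hK h4
  exact ⟨b1, b2, b3, tor_injective K hK h5, a1, a2, a3⟩

end

end Cfsg.Agent.ReeG2
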