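import Cfsg.Agent.ReeG2.UMul
import Cfsg.Agent.Chev.Torus

/-!
The subgroup `PSL₂(q)` of `²G₂(q)` on the roots `a + b` and `3a + b` (owner: helper34).
-/

set_option autoImplicit false

namespace Cfsg.Agent.ReeG2

open Cfsg.Lie Cfsg.Agent.ChevGrp Cfsg.Agent.ChevTw Matrix
open scoped MatrixGroups

variable (K : Type*) [Field K]

/-- The root elements of the matrix group. -/
noncomputable abbrev X (r : ℕ) (t : K) : GL chevG2.Idx K := xGL chevG2 K r t

theorem val_X (r : ℕ) (t : K) : (X K r t : Matrix chevG2.Idx chevG2.Idx K) = chevG2.x K r t :=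
  val_xGL (Cfsg.Agent.Chev.rules_of_mem K (by simp)) r t

theorem commG2 : ∀ p ∈ [(8, 10), (8, 1), (3, 10), (3, 1)], p.1 < chevG2.nroots ∧ p.2 < chevG2.nroots ∧
    p.2 ≠ p.1 ∧ p.2 ≠ chevG2.neg p.1 ∧ chevG2.commTerms p.1 p.2 = [] := by decide +kernel

theorem torusExp_even : ∀ s : Fin chevG2.nroots,
    (Cfsg.Agent.Chev.torusExp chevG2 8 s + Cfsg.Agent.Chev.torusExp chevG2 10 s) % 2 = 0 := by
  decide +kernel

/-- The homomorphism of `SL₂` on one root. -/
noncomputable def rootSL {r : ℕ} (hr : r < chevG2.nroots) : SL(2, K) →* GL chevG2.Idx K :=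
  (Cfsg.Agent.Chev.validG2.exists_sl2 (F := K) hr).choose

theorem rootSL_upper {r : ℕ} (hr : r < chevG2.nroots) (t : K) :
    rootSL K hr (Cfsg.Agent.Chev.RankOne.upper t) = X K r t :=
  Units.ext ((((Cfsg.Agent.Chev.validG2.exists_sl2 (F := K) hr).choose_spec.2 _ t).1 rfl).trans
    (val_X K r t).symm)

/-- The lower unitriangular matrix. -/
def lower (t : K) : SL(2, K) := ⟨!![1, 0; t, 1], by simp [Matrix.det_fin_two]⟩

theorem rootSL_lower {r : ℕ} (hr : r < chevG2.nroots) (t : K) :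
    rootSL K hr (lower K t) = X K (chevG2.neg r) t :=
  Units.ext ((((Cfsg.Agent.Chev.validG2.exists_sl2 (F := K) hr).choose_spec.2 _ t).2 rfl).trans
    (val_X K _ t).symm)

/-- The upper unitriangular matrix. -/
theorem upper_val (t : K) : (Cfsg.Agent.Chev.RankOne.upper t : SL(2, K)).1 = !![1, t; 0, 1] := rfl

theorem lower_val (t : K) : (lower K t).1 = !![1, 0; t, 1] := rfl

theorem upper_mul (s t : K) : (Cfsg.Agent.Chev.RankOne.upper s : SL(2, K)) * Cfsg.Agent.Chev.RankOne.upper t =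
    Cfsg.Agent.Chev.RankOne.upper (s + t) := by
  refine Subtype.ext ?_
  rw [Cfsg.Agent.Chev.RankOne.sl_mul_val, upper_val, upper_val, upper_val]
  simp [add_comm]

theorem lower_mul (s t : K) : lower K s * lower K t = lower K (s + t) := by
  refine Subtype.ext ?_
  rw [Cfsg.Agent.Chev.RankOne.sl_mul_val, lower_val, lower_val, lower_val]
  simp

theorem weyl_eq : (Cfsg.Agent.Chev.RankOne.weyl : SL(2, K)) =
    Cfsg.Agent.Chev.RankOne.upper 1 * lower K (-1) * Cfsg.Agent.Chev.RankOne.upper 1 := by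
  refine Subtype.ext ?_
  rw [Cfsg.Agent.Chev.RankOne.sl_mul_val, Cfsg.Agent.Chev.RankOne.sl_mul_val, upper_val, lower_val]
  simp [Cfsg.Agent.Chev.RankOne.weyl]

theorem neg_one_eq : (-1 : SL(2, K)) = (Cfsg.Agent.Chev.RankOne.upper (-1) * lower K 1 *
      Cfsg.Agent.Chev.RankOne.upper (-1)) * (Cfsg.Agent.Chev.RankOne.upper (-1) * lower K 1 *
      Cfsg.Agent.Chev.RankOne.upper (-1)) := by
  refine Subtype.ext ?_
  simp only [Cfsg.Agent.Chev.RankOne.sl_mul_val, upper_val, lower_val]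
  show -(1 : Matrix (Fin 2) (Fin 2) K) = _
  ext i j
  fin_cases i <;> fin_cases j <;> simp

theorem rootSL_commute (g h : SL(2, K)) :
    Commute (rootSL K (show 8 < chevG2.nroots by decide) g) (rootSL K (show 10 < chevG2.nroots by decide) h) := by
  have hS := Cfsg.Agent.Chev.rules_of_mem (D := chevG2) K (by simp)
  have hc : ∀ p ∈ [(8, 10), (8, 1), (3, 10), (3, 1)], ∀ t u : K, Commute (X K p.1 t) (X K p.2 u) := by
    intro p hp t u
    obtain ⟨h1, h2, h3, h4, h5⟩ := commG2 p hp
    exact x_commute (glSys hS) h1 h2 h3 h4 h5 t u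
  have hn8 : chevG2.neg 8 = 3 := by decide
  have hn10 : chevG2.neg 10 = 1 := by decide
  let C : Subgroup SL(2, K) :=
    { carrier := {x | ∀ t : K,
        Commute (rootSL K (show 8 < chevG2.nroots by decide) x) (X K 10 t) ∧
        Commute (rootSL K (show 8 < chevG2.nroots by decide) x) (X K 1 t)}
      one_mem' := fun t => by simp
      mul_mem' := fun {a b} ha hb t => by
        rw [map_mul]; exact ⟨(ha t).1.mul_left (hb t).1, (ha t).2.mul_left (hb t).2⟩
      inv_mem' := fun {a} ha t => by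
        rw [map_inv]; exact ⟨(ha t).1.inv_left, (ha t).2.inv_left⟩ }
  have hgen : ∀ (D' : Subgroup SL(2, K)), (∀ t, Cfsg.Agent.Chev.RankOne.upper t ∈ D') →
      (∀ t, lower K t ∈ D') → D' = ⊤ := by
    intro D' hu hl
    refine eq_top_iff.2 fun x _ => ?_
    refine Cfsg.Agent.Chev.RankOne.mem_of_upper_weyl (S := D'.toSubmonoid) hu ?_ x
    show _ ∈ D'
    rw [weyl_eq]
    exact mul_mem (mul_mem (hu _) (hl _)) (hu _)
  have hC : C = ⊤ := by
    refine hgen C (fun s t => ?_) (fun s t => ?_)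
    · rw [rootSL_upper]
      exact ⟨hc (8, 10) (by simp) _ _, hc (8, 1) (by simp) _ _⟩
    · rw [rootSL_lower, hn8]
      exact ⟨hc (3, 10) (by simp) _ _, hc (3, 1) (by simp) _ _⟩
  have hg : g ∈ C := hC ▸ Subgroup.mem_top g
  have hD : (Subgroup.centralizer {rootSL K (show 8 < chevG2.nroots by decide) g}).comap
      (rootSL K (show 10 < chevG2.nroots by decide)) = ⊤ := by
    refine hgen _ (fun t => ?_) (fun t => ?_)
    · rw [Subgroup.mem_comap, Subgroup.mem_centralizer_singleton_iff, rootSL_upper]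
      exact (hg t).1.eq.symm
    · rw [Subgroup.mem_comap, Subgroup.mem_centralizer_singleton_iff, rootSL_lower, hn10]
      exact (hg t).2.eq.symm
  have := (hD ▸ Subgroup.mem_top h : h ∈ (Subgroup.centralizer
    {rootSL K (show 8 < chevG2.nroots by decide) g}).comap (rootSL K (show 10 < chevG2.nroots by decide)))
  rw [Subgroup.mem_comap, Subgroup.mem_centralizer_singleton_iff] at this
  exact this.symm

variable [CharP K 3] (m : ℕ)

/-- `t ↦ t^(3^m)`. -/
noncomputable def theta : K →+* K :=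
  haveI : Fact (Nat.Prime 3) := ⟨Nat.prime_three⟩
  iterateFrobenius K 3 m

theorem theta_apply (t : K) : theta K m t = t ^ 3 ^ m := by
  haveI : Fact (Nat.Prime 3) := ⟨Nat.prime_three⟩
  exact iterateFrobenius_def 3 m t

/-- The homomorphism of `SL₂` into `²G₂`. -/
noncomputable def lHom : SL(2, K) →* GL chevG2.Idx K :=
  MonoidHom.mk' (fun g => rootSL K (show 8 < chevG2.nroots by decide) (SpecialLinearGroup.map (theta K m) g) *
    rootSL K (show 10 < chevG2.nroots by decide) g) fun a b => by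
      rw [map_mul, map_mul, map_mul]
      exact (rootSL_commute K (SpecialLinearGroup.map (theta K m) b) a).mul_mul_mul_comm _ _

theorem map_upper (φ : K →+* K) (t : K) :
    SpecialLinearGroup.map φ (Cfsg.Agent.Chev.RankOne.upper t) = Cfsg.Agent.Chev.RankOne.upper (φ t) := by
  refine Subtype.ext ?_
  rw [SpecialLinearGroup.map_apply_coe, upper_val, upper_val]
  ext i j
  fin_cases i <;> fin_cases j <;> simp

theorem map_lower (φ : K →+* K) (t : K) : SpecialLinearGroup.map φ (lower K t) = lower K (φ t) := by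
  refine Subtype.ext ?_
  rw [SpecialLinearGroup.map_apply_coe, lower_val, lower_val]
  ext i j
  fin_cases i <;> fin_cases j <;> simp

theorem lHom_upper (t : K) :
    lHom K m (Cfsg.Agent.Chev.RankOne.upper t) = X K 8 (t ^ 3 ^ m) * X K 10 t := by
  show rootSL K _ _ * rootSL K _ _ = _
  rw [map_upper, rootSL_upper, rootSL_upper, theta_apply]

theorem lHom_lower (t : K) : lHom K m (lower K t) = X K 3 (t ^ 3 ^ m) * X K 1 t := by
  show rootSL K _ _ * rootSL K _ _ = _
  rw [map_lower, rootSL_lower, rootSL_lower, theta_apply]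
  rfl

theorem lHom_upper_reeEl (u : K) :
    lHom K m (Cfsg.Agent.Chev.RankOne.upper u) = reeEl (glSys (rulesG2 K)) (3 ^ m) 0 u 0 := by
  rw [lHom_upper, reeEl, uSix, qPart]
  have h0 : ∀ r, r < chevG2.nroots → (glSys (rulesG2 K)).x r (0 : K) = 1 := fun r hr => Sys.x_zero _ hr
  simp [h0 7 (by decide), h0 6 (by decide), h0 9 (by decide), h0 11 (by decide)]
  rfl

theorem lHom_neg_one : lHom K m (-1) = 1 := by
  have hV := Cfsg.Agent.Chev.validG2
  have key : ∀ {r : ℕ} (hr : r < chevG2.nroots),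
      (rootSL K hr (-1) : Matrix chevG2.Idx chevG2.Idx K) = Cfsg.Agent.Chev.hDiag chevG2 r (-1) := by
    intro r hr
    rw [neg_one_eq, map_mul, map_mul, map_mul, rootSL_upper, rootSL_lower, ← hV.hMat_eq hr (neg_ne_zero.2 one_ne_zero),
      hV.hMat_eq_prod, hV.nMat_eq_prod, inv_neg, inv_one, _root_.neg_neg]
    simp only [Units.val_mul, val_X]
  have hm : SpecialLinearGroup.map (theta K m) (-1 : SL(2, K)) = -1 := by
    ext i j
    fin_cases i <;> fin_cases j <;> simp
  refine Units.ext ?_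
  show ((rootSL K _ (SpecialLinearGroup.map (theta K m) (-1)) * rootSL K _ (-1) : GL chevG2.Idx K) :
    Matrix chevG2.Idx chevG2.Idx K) = 1
  rw [hm, Units.val_mul, key, key, Cfsg.Agent.Chev.hDiag, Cfsg.Agent.Chev.hDiag, diagonal_mul_diagonal,
    ← diagonal_one]
  congr 1
  funext i
  rcases i with i | s
  · simp
  · simp only [Sum.elim_inr]
    rw [← zpow_add₀ (neg_ne_zero.2 one_ne_zero)]
    obtain ⟨c, hc⟩ : (2 : ℤ) ∣ Cfsg.Agent.Chev.torusExp chevG2 8 s + Cfsg.Agent.Chev.torusExp chevG2 10 s :=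
      Int.dvd_of_emod_eq_zero (torusExp_even s)
    rw [hc, _root_.zpow_mul]
    simp

theorem lHom_upper_lower {a b : K}
    (e : lHom K m (lower K a) = lHom K m (Cfsg.Agent.Chev.RankOne.upper b)) : a = 0 ∧ b = 0 := by
  obtain ⟨len, hR⟩ := (rulesG2 K).root
  set S := glSys (rulesG2 K)
  have hposneg : chevG2.IsPosRoot 8 ∧ chevG2.IsPosRoot 10 ∧ chevG2.IsNegRoot 3 ∧ chevG2.IsNegRoot 1 := by
    decide +kernel
  have hV : lHom K m (lower K a) ∈ S.Vbar ⊓ S.Bbar := by
    refine Subgroup.mem_inf.2 ⟨?_, ?_⟩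
    · rw [lHom_lower]
      exact mul_mem (S.x_mem_US hposneg.2.2.1 _) (S.x_mem_US hposneg.2.2.2 _)
    · rw [e, lHom_upper]
      exact S.Ubar_le_Bbar (mul_mem (S.x_mem_US hposneg.1 _) (S.x_mem_US hposneg.2.1 _))
  rw [S.Vbar_inf_Bbar (rulesG2 K) hR, Subgroup.mem_bot] at hV
  refine ⟨?_, ?_⟩
  · have hL : Enum (negSet chevG2) [3, 1, 0, 2, 4, 5] := by
      have hmem : ∀ r, r < chevG2.nroots → (chevG2.IsNegRoot r ↔ r ∈ [3, 1, 0, 2, 4, 5]) := by decide +kernel
      refine ⟨by decide, fun r => ⟨fun hr => (hmem r ?_).2 hr, fun hr => (hmem r hr.1).1 hr⟩⟩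
      simp only [List.mem_cons, List.not_mem_nil, or_false] at hr
      show r < 12
      omega
    have h0 : ∀ r, r < chevG2.nroots → xGL chevG2 K r (0 : K) = 1 := fun r hr => S.x_zero hr
    have h := zip_unique (S := S) hR hR.negSet_closed hL (v := [a ^ 3 ^ m, a, 0, 0, 0, 0])
      (v' := [0, 0, 0, 0, 0, 0]) rfl rfl (by
        rw [lHom_lower] at hV
        simp [S, glSys, h0 3 (by decide), h0 1 (by decide), h0 0 (by decide), h0 2 (by decide),
          h0 4 (by decide), h0 5 (by decide)] at hV ⊢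
        exact hV)
    simp only [List.cons.injEq, and_true] at h
    exact h.2
  · rw [e, lHom_upper_reeEl, ← reeEl_one S (pow_ne_zero m three_ne_zero)] at hV
    exact (reeEl_inj hV).2.1

theorem lHom_eq_one {g : SL(2, K)} (hg : lHom K m g = 1) : g = 1 ∨ g = -1 := by
  have hdet : g.1 0 0 * g.1 1 1 - g.1 0 1 * g.1 1 0 = 1 := by
    have := g.2
    rwa [Matrix.det_fin_two] at this
  have hc : g.1 1 0 = 0 := by
    by_contra hc
    have e : g = Cfsg.Agent.Chev.RankOne.upper ((g.1 0 0 - 1) / g.1 1 0) * lower K (g.1 1 0) *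
        Cfsg.Agent.Chev.RankOne.upper ((g.1 1 1 - 1) / g.1 1 0) := by
      refine Subtype.ext ?_
      rw [Cfsg.Agent.Chev.RankOne.sl_mul_val, Cfsg.Agent.Chev.RankOne.sl_mul_val, upper_val, lower_val]
      simp only [upper_val, lower_val]
      ext i j
      fin_cases i <;> fin_cases j <;> simp <;> field_simp <;> grind
    set p := (g.1 0 0 - 1) / g.1 1 0
    set s := (g.1 1 1 - 1) / g.1 1 0
    rw [e, map_mul, map_mul, mul_eq_one_iff_eq_inv] at hg
    have hinv : ∀ t : K, (lHom K m (Cfsg.Agent.Chev.RankOne.upper t))⁻¹ =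
        lHom K m (Cfsg.Agent.Chev.RankOne.upper (-t)) := fun t => by
      rw [← map_inv]
      refine congrArg _ (inv_eq_of_mul_eq_one_right ?_)
      rw [upper_mul, add_neg_cancel]
      exact Subtype.ext (by rw [upper_val]; ext i j; fin_cases i <;> fin_cases j <;> simp)
    rw [hinv, ← eq_inv_mul_iff_mul_eq, hinv, ← map_mul] at hg
    rw [upper_mul] at hg
    exact hc (lHom_upper_lower K m hg).1
  have hb : g.1 0 1 = 0 := by
    by_contra hb
    have e : g = lower K ((g.1 1 1 - 1) / g.1 0 1) * Cfsg.Agent.Chev.RankOne.upper (g.1 0 1) *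
        lower K ((g.1 0 0 - 1) / g.1 0 1) := by
      refine Subtype.ext ?_
      rw [Cfsg.Agent.Chev.RankOne.sl_mul_val, Cfsg.Agent.Chev.RankOne.sl_mul_val, upper_val, lower_val]
      simp only [upper_val, lower_val]
      ext i j
      fin_cases i <;> fin_cases j <;> simp <;> field_simp <;> grind
    set p := (g.1 1 1 - 1) / g.1 0 1
    set s := (g.1 0 0 - 1) / g.1 0 1
    rw [e, map_mul, map_mul, mul_eq_one_iff_eq_inv] at hg
    have hinv : ∀ t : K, (lHom K m (lower K t))⁻¹ = lHom K m (lower K (-t)) := fun t => by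
      rw [← map_inv]
      refine congrArg _ (inv_eq_of_mul_eq_one_right ?_)
      rw [lower_mul, add_neg_cancel]
      exact Subtype.ext (by rw [lower_val]; ext i j; fin_cases i <;> fin_cases j <;> simp)
    rw [hinv, ← eq_inv_mul_iff_mul_eq, hinv, ← map_mul] at hg
    rw [lower_mul] at hg
    exact hb (lHom_upper_lower K m hg.symm).2
  have had : g.1 0 0 * g.1 1 1 = 1 := by rw [hb] at hdet; linear_combination hdet
  have e3 : g * Cfsg.Agent.Chev.RankOne.upper 1 = Cfsg.Agent.Chev.RankOne.upper (g.1 0 0 ^ 2) * g := by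
    refine Subtype.ext ?_
    rw [Cfsg.Agent.Chev.RankOne.sl_mul_val, Cfsg.Agent.Chev.RankOne.sl_mul_val, upper_val, upper_val]
    ext i j
    fin_cases i <;> fin_cases j <;> simp [Matrix.mul_apply, Fin.sum_univ_two, hb, hc]
    linear_combination (-(g.1 0 0)) * had
  have h4 := congrArg (lHom K m) e3
  rw [map_mul, map_mul, hg, one_mul, mul_one, lHom_upper_reeEl, lHom_upper_reeEl] at h4
  have h5 : g.1 0 0 ^ 2 = 1 := (reeEl_inj h4).2.1.symm
  rcases sq_eq_one_iff.1 h5 with h6 | h6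
  · left
    have h7 : g.1 1 1 = 1 := by rwa [h6, one_mul] at had
    ext i j
    fin_cases i <;> fin_cases j <;> simp [h6, h7, hb, hc]
  · right
    have h7 : g.1 1 1 = -1 := by rw [h6] at had; linear_combination -had
    ext i j
    fin_cases i <;> fin_cases j <;> simp [h6, h7, hb, hc]

theorem mem_center_SL2 {g : SL(2, K)} : g ∈ Subgroup.center SL(2, K) ↔ g = 1 ∨ g = -1 := by
  rw [Matrix.SpecialLinearGroup.mem_center_iff]
  constructor
  · rintro ⟨r, hr, hg⟩
    rw [Fintype.card_fin] at hr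
    rcases sq_eq_one_iff.1 hr with rfl | rfl
    · left; exact Subtype.ext (hg.symm.trans (by simp))
    · right; exact Subtype.ext (hg.symm.trans (by ext i j; fin_cases i <;> fin_cases j <;> simp))
  · rintro (rfl | rfl)
    · exact ⟨1, one_pow _, by simp⟩
    · exact ⟨-1, by simp, by ext i j; fin_cases i <;> fin_cases j <;> simp⟩

theorem lHom_ker : (lHom K m).ker = Subgroup.center SL(2, K) := by
  ext g
  rw [MonoidHom.mem_ker, mem_center_SL2]
  refine ⟨lHom_eq_one K m, ?_⟩
  rintro (rfl | rfl)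
  · exact map_one _
  · exact lHom_neg_one K m

/-- The embedding of `PSL₂`. -/
noncomputable def lEquiv : Matrix.ProjectiveSpecialLinearGroup (Fin 2) K ≃* ↥(lHom K m).range :=
  (QuotientGroup.quotientMulEquivOfEq (lHom_ker K m).symm).trans
    (QuotientGroup.quotientKerEquivRange (lHom K m))

theorem lHom_range_le {P : Subgroup (GL chevG2.Idx K)}
    (hu : ∀ t : K, lHom K m (Cfsg.Agent.Chev.RankOne.upper t) ∈ P)
    (hl : ∀ t : K, lHom K m (lower K t) ∈ P) : (lHom K m).range ≤ P := by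
  rintro _ ⟨g, rfl⟩
  show g ∈ P.comap (lHom K m)
  refine Cfsg.Agent.Chev.RankOne.mem_of_upper_weyl (S := (P.comap (lHom K m)).toSubmonoid) hu ?_ g
  show _ ∈ P.comap (lHom K m)
  rw [weyl_eq]
  exact mul_mem (mul_mem (hu _) (hl _)) (hu _)

end Cfsg.Agent.ReeG2
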