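import Cfsg.Agent.ReeG2.Cosets
import Cfsg.Agent.ReeG2.LSub
import Cfsg.Agent.Linear.Orders
import Cfsg.Agent.Linear.Torus

/-!
The centraliser of an involution and the Sylow subgroups of `²G₂(q)` (owner: helper34).
-/

set_option autoImplicit false

namespace Cfsg.Agent.ReeG2

open Cfsg.Lie Cfsg.Agent.ChevGrp Cfsg.Agent.ChevTw Matrix
open scoped MatrixGroups

theorem zmodTwo_cases : ∀ e : Multiplicative (ZMod 2), e = 1 ∨ e = Multiplicative.ofAdd 1 := by decide

/-- An element of order at most two as a homomorphism. -/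
def twoHom {G : Type*} [Group G] (x : G) (hx : x * x = 1) : Multiplicative (ZMod 2) →* G where
  toFun e := if e = 1 then 1 else x
  map_one' := if_pos rfl
  map_mul' a b := by
    have h1 : (Multiplicative.ofAdd (1 : ZMod 2)) ≠ 1 := by decide
    have h2 : Multiplicative.ofAdd (1 : ZMod 2) * Multiplicative.ofAdd 1 = 1 := by decide
    rcases zmodTwo_cases a with rfl | rfl <;> rcases zmodTwo_cases b with rfl | rfl <;>
      simp only [h1, h2, one_mul, mul_one, if_pos, if_false, hx]

variable (K : Type*) [Field K] [Fintype K] {m : ℕ} (hK : Fintype.card K = 3 ^ (2 * m + 1))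

include hK

theorem negOne_ne_one : (-1 : K) ≠ 1 := by
  haveI := charG2 hK
  exact Ring.neg_one_ne_one_of_char_ne_two (R := K) (by rw [ringChar.eq K 3]; decide)

theorem negOneUnit_ne_one : (-1 : Kˣ) ≠ 1 := fun h =>
  negOne_ne_one K hK (by simpa using congrArg Units.val h)

theorem odd_card : Odd (Fintype.card K) := by rw [hK]; exact Odd.pow (by decide)

theorem card_sq_one : Nat.card {w : Kˣ // w ^ 2 = 1} = 2 := card_pow_eq_one_of_dvd (by
  obtain ⟨k, hk⟩ := odd_card K hK
  exact ⟨k, by omega⟩)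

theorem tor_negOne_sq : tor K m (-1) * tor K m (-1) = 1 := by
  rw [← map_mul, neg_mul_neg, one_mul, map_one]

theorem tor_negOne_ne : tor K m (-1) ≠ 1 := fun h =>
  negOneUnit_ne_one K hK (tor_injective K hK (h.trans (map_one (tor K m)).symm))

variable [CharP K 3]

theorem lHom_upper_mem (t : K) : lHom K m (Cfsg.Agent.Chev.RankOne.upper t) ∈ RG K m := by
  rw [lHom_upper_reeEl]
  exact (uEl_mem K hK 0 t 0).2

theorem lHom_lower_mem (t : K) : lHom K m (lower K t) ∈ RG K m := by
  have e : chevG2.negIdx.getD 7 0 = 4 ∧ chevG2.negIdx.getD 6 0 = 5 ∧ chevG2.negIdx.getD 8 0 = 3 ∧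
      chevG2.negIdx.getD 9 0 = 2 ∧ chevG2.negIdx.getD 10 0 = 1 ∧ chevG2.negIdx.getD 11 0 = 0 := by decide
  obtain ⟨e7, e6, e8, e9, e10, e11⟩ := e
  have h0 : ∀ r, r < chevG2.nroots → xGL chevG2 K r (0 : K) = 1 := fun r hr => (GS K).x_zero hr
  have hodd : Odd (3 ^ m) := Odd.pow (by decide)
  have hw : ((reeWordV (3 ^ m) 0 (-t) 0).map fun p => xGL chevG2 K p.1 p.2).prod = lHom K m (lower K t) := by
    rw [lHom_lower]
    simp only [reeWordV, ChevalleyDatum.negWord, reeWordU, g2a, g2b, g2ab, g2aab, g2aaab, g2aaabb,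
      List.map_cons, List.map_nil, List.prod_cons, List.prod_nil, e7, e6, e8, e9, e10, e11,
      zero_pow (pow_ne_zero m three_ne_zero), zero_pow (Nat.succ_ne_zero (3 ^ m)),
      zero_pow (Nat.succ_ne_zero (2 * 3 ^ m)), zero_add, add_zero, neg_zero, hodd.neg_pow, neg_neg]
    rw [h0 4 (by decide), h0 5 (by decide), h0 2 (by decide), h0 0 (by decide)]
    simp [X]
  rw [← hw]
  exact word_mem_genSubgroup (ChevTw.rulesG2 K) ⟨0, -t, 0, Or.inr rfl⟩

theorem lHom_mem (g : SL(2, K)) : lHom K m g ∈ RG K m :=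
  lHom_range_le K m (lHom_upper_mem K hK) (lHom_lower_mem K hK) ⟨g, rfl⟩

theorem negOne_commute_lHom (g : SL(2, K)) : Commute (tor K m (-1)) (lHom K m g) := by
  have hE : Odd ((3 ^ m : ℕ) : ℤ) := by exact_mod_cast Odd.pow (show Odd 3 by decide)
  obtain ⟨k, hk⟩ := hE
  have hcomm : ∀ r, r ∈ [8, 10, 3, 1] → ∀ t : K, Commute (tor K m (-1)) (xGL chevG2 K r t) := by
    intro r hr t
    have hc : [8, 10, 3, 1].map (fun r => (chevG2.cartan 0 r, chevG2.cartan 1 r)) =
        [(-1, 1), (3, -1), (1, -1), (-3, 1)] := by decide +kernel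
    simp only [List.map_cons, List.map_nil, List.cons.injEq, Prod.mk.injEq, and_true] at hc
    have hlt : r < chevG2.nroots := by
      simp only [List.mem_cons, List.not_mem_nil, or_false] at hr
      show r < 12
      omega
    have he : Even (((3 ^ m : ℕ) : ℤ) * chevG2.cartan 0 r + chevG2.cartan 1 r) := by
      simp only [List.mem_cons, List.not_mem_nil, or_false] at hr
      obtain ⟨⟨a, b⟩, ⟨c, d⟩, ⟨e, f⟩, ⟨g', h⟩⟩ := hc
      rw [hk]
      rcases hr with rfl | rfl | rfl | rfl
      · rw [a, b]; exact ⟨-k, by ring⟩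
      · rw [c, d]; exact ⟨3 * k + 1, by ring⟩
      · rw [e, f]; exact ⟨k, by ring⟩
      · rw [g', h]; exact ⟨-3 * k - 1, by ring⟩
    have h1 := tor_conj_x K m (-1) hlt t
    rw [he.neg_one_zpow, Units.val_one, one_mul] at h1
    exact mul_inv_eq_iff_eq_mul.1 h1
  have hP : (lHom K m).range ≤ Subgroup.centralizer {tor K m (-1)} := by
    refine lHom_range_le K m (fun t => ?_) (fun t => ?_) <;>
      rw [Subgroup.mem_centralizer_singleton_iff]
    · rw [lHom_upper]
      exact ((hcomm 8 (by simp) _).mul_right (hcomm 10 (by simp) _)).eq.symm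
    · rw [lHom_lower]
      exact ((hcomm 3 (by simp) _).mul_right (hcomm 1 (by simp) _)).eq.symm
  exact (Subgroup.mem_centralizer_singleton_iff.1 (hP ⟨g, rfl⟩)).symm

theorem negOne_ne_lHom (g : SL(2, K)) : tor K m (-1) ≠ lHom K m g := by
  intro h
  have key : ∀ u : SL(2, K), g * u = u * g ∨ g * u = -1 * (u * g) := by
    intro u
    have hu := (negOne_commute_lHom K hK u).eq
    rw [h, ← map_mul, ← map_mul] at hu
    have h1 : lHom K m (g * u * (u * g)⁻¹) = 1 := by rw [map_mul, map_inv, hu, mul_inv_cancel]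
    rcases lHom_eq_one K m h1 with h2 | h2
    · exact Or.inl (mul_inv_eq_one.1 h2)
    · exact Or.inr (mul_inv_eq_iff_eq_mul.1 h2)
  have hdet : g.1 0 0 * g.1 1 1 - g.1 0 1 * g.1 1 0 = 1 := by
    have := g.2
    rwa [Matrix.det_fin_two] at this
  have h2 : (2 : K) ≠ 0 := by
    intro e
    exact negOne_ne_one K hK (by linear_combination -e)
  have hneg : ∀ M : SL(2, K), ((-1 : SL(2, K)) * M).1 = -M.1 := by
    intro M
    rw [Cfsg.Agent.Chev.RankOne.sl_mul_val]
    show (-1 : Matrix (Fin 2) (Fin 2) K) * M.1 = _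
    rw [neg_mul, one_mul]
  have mulv := Cfsg.Agent.Chev.RankOne.sl_mul_val (F := K)
  obtain ⟨hc, had, hb⟩ : g.1 1 0 = 0 ∧ g.1 0 0 = g.1 1 1 ∧ g.1 0 1 = 0 := by
    rcases key (Cfsg.Agent.Chev.RankOne.upper 1) with e | e
    · have e' := congrArg Subtype.val e
      rw [mulv, mulv, upper_val, ← Matrix.ext_iff] at e'
      have p00 := e' 0 0; have p01 := e' 0 1
      simp [Matrix.mul_apply, Fin.sum_univ_two] at p00 p01
      refine ⟨by linear_combination p00, by linear_combination p01, ?_⟩
      rcases key (lower K 1) with f | f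
      · have f' := congrArg Subtype.val f
        rw [mulv, mulv, lower_val, ← Matrix.ext_iff] at f'
        have q00 := f' 0 0
        simp [Matrix.mul_apply, Fin.sum_univ_two] at q00
        linear_combination q00
      · have f' := congrArg Subtype.val f
        rw [mulv, hneg, mulv, lower_val, ← Matrix.ext_iff] at f'
        have q01 := f' 0 1
        simp [Matrix.mul_apply, Matrix.neg_apply, Matrix.vecMul, dotProduct, Fin.sum_univ_two] at q01
        exact (mul_eq_zero.1 (show (2 : K) * g.1 0 1 = 0 by linear_combination q01)).resolve_left h2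
    · exfalso
      have e' := congrArg Subtype.val e
      rw [mulv, hneg, mulv, upper_val, ← Matrix.ext_iff] at e'
      have p10 := e' 1 0; have p11 := e' 1 1
      simp [Matrix.mul_apply, Matrix.neg_apply, Matrix.vecMul, dotProduct, Fin.sum_univ_two] at p10 p11
      have hc := (mul_eq_zero.1 (show (2 : K) * g.1 1 0 = 0 by linear_combination p10)).resolve_left h2
      have hd := (mul_eq_zero.1 (show (2 : K) * g.1 1 1 = 0 by linear_combination p11 - hc)).resolve_left h2
      rw [hc, hd] at hdet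
      simp at hdet
  have hsq : g.1 0 0 * g.1 0 0 = 1 := by
    rw [hb, hc, ← had] at hdet
    linear_combination hdet
  have hg : g = 1 ∨ g = -1 := by
    rcases mul_self_eq_one_iff.1 hsq with ha | ha
    · left
      ext i j
      fin_cases i <;> fin_cases j <;> simp [hb, hc, ← had, ha]
    · right
      ext i j
      fin_cases i <;> fin_cases j <;> simp [hb, hc, ← had, ha]
  apply tor_negOne_ne K hK (m := m)
  rcases hg with rfl | rfl
  · rw [h, map_one]
  · rw [h, lHom_neg_one]

/-- `PSL₂` inside the group of matrices. -/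
noncomputable def pHom : Matrix.ProjectiveSpecialLinearGroup (Fin 2) K →* GL chevG2.Idx K :=
  (lHom K m).range.subtype.comp (lEquiv K m).toMonoidHom

theorem pHom_eq (x : Matrix.ProjectiveSpecialLinearGroup (Fin 2) K) :
    ∃ g : SL(2, K), (pHom K (m := m)) x = lHom K m g := by
  obtain ⟨g, hg⟩ := (lEquiv K m x).2
  exact ⟨g, hg.symm⟩

theorem pHom_injective : Function.Injective ((pHom K (m := m))) := fun _ _ h =>
  (lEquiv K m).injective (Subtype.ext h)

/-- The centralised product. -/
noncomputable def cHom : Multiplicative (ZMod 2) × Matrix.ProjectiveSpecialLinearGroup (Fin 2) K →*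
    GL chevG2.Idx K :=
  (twoHom (tor K m (-1)) (tor_negOne_sq K hK)).noncommCoprod ((pHom K (m := m))) fun e x => by
    obtain ⟨g, hg⟩ := pHom_eq K hK x
    rw [hg]
    show Commute (if e = 1 then 1 else tor K m (-1)) _
    split_ifs
    · exact Commute.one_left _
    · exact negOne_commute_lHom K hK g

theorem cHom_injective : Function.Injective (cHom K hK) := by
  rw [injective_iff_map_eq_one]
  rintro ⟨e, x⟩ h
  rw [cHom, MonoidHom.noncommCoprod_apply] at h
  rcases zmodTwo_cases e with rfl | rfl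
  · rw [map_one, one_mul] at h
    have hx : x = 1 := pHom_injective K hK (h.trans (map_one _).symm)
    rw [hx]
    rfl
  · exfalso
    obtain ⟨g, hg⟩ := pHom_eq K hK x⁻¹
    apply negOne_ne_lHom K hK g
    rw [← hg, map_inv]
    exact mul_eq_one_iff_eq_inv.1 h

theorem cHom_mem (p : Multiplicative (ZMod 2) × Matrix.ProjectiveSpecialLinearGroup (Fin 2) K) :
    cHom K hK p ∈ RG K m ∧ Commute (tor K m (-1)) (cHom K hK p) := by
  obtain ⟨g, hg⟩ := pHom_eq K hK p.2
  rw [cHom, MonoidHom.noncommCoprod_apply, hg]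
  show (if p.1 = 1 then 1 else tor K m (-1)) * _ ∈ _ ∧ _
  have h2 := negOne_commute_lHom K hK g
  refine ⟨mul_mem ?_ (lHom_mem K hK g), Commute.mul_right ?_ h2⟩
  · split_ifs
    · exact one_mem _
    · exact tor_mem_Tw K hK _
  · show Commute (tor K m (-1)) (if p.1 = 1 then 1 else tor K m (-1))
    split_ifs
    · exact Commute.one_right _
    · exact Commute.refl _

/-- The involution of the torus in the group. -/
noncomputable abbrev jT : ↥(RG K m) := tT K hK (-1)

/-- The product inside the centraliser. -/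
noncomputable def centHom : Multiplicative (ZMod 2) × Matrix.ProjectiveSpecialLinearGroup (Fin 2) K →*
    ↥(Subgroup.centralizer {jT K hK}) :=
  ((cHom K hK).codRestrict (RG K m) fun p => (cHom_mem K hK p).1).codRestrict _ fun p =>
    Subgroup.mem_centralizer_singleton_iff.2 (Subtype.ext (cHom_mem K hK p).2.eq.symm)

theorem centHom_injective : Function.Injective (centHom K hK) := fun a b h =>
  cHom_injective K hK (congrArg (fun z : ↥(Subgroup.centralizer {jT K hK}) => ((z : ↥(RG K m)) : GL chevG2.Idx K)) h)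

theorem card_cent_le : Nat.card ↥(Subgroup.centralizer {jT K hK}) ≤
    Nat.card (Multiplicative (ZMod 2) × Matrix.ProjectiveSpecialLinearGroup (Fin 2) K) := by
  have hj : ∀ g : ↥(Subgroup.centralizer {jT K hK}),
      Commute (tor K m (-1)) ((g : ↥(RG K m)) : GL chevG2.Idx K) := fun g =>
    (congrArg Subtype.val (Subgroup.mem_centralizer_singleton_iff.1 g.2)).symm
  have hne := negOneUnit_ne_one K hK
  have hfix : ∀ t u v : K, Commute (tor K m (-1)) (uEl K m t u v) → t = 0 ∧ v = 0 := fun t u v h =>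
    (fix_cases K hK (x := -1) h.eq).1 hne
  have hjx : ∀ x, Commute (tor K m (-1)) (tor K m x) := fun x => (Commute.all _ _).map (tor K m)
  have hjn : Commute (tor K m (-1)) (nG K hK) := (mul_inv_eq_iff_eq_mul.1 (nG_conj_negOne K hK)).symm
  let f : (K × Kˣ) ⊕ (K × Kˣ × K) → GL chevG2.Idx K := Sum.elim
    (fun p => uEl K m 0 p.1 0 * tor K m p.2)
    (fun p => uEl K m 0 p.1 0 * tor K m p.2.1 * nG K hK * uEl K m 0 p.2.2 0)
  have hsurj : ∀ g : ↥(Subgroup.centralizer {jT K hK}), ∃ p, f p = ((g : ↥(RG K m)) : GL chevG2.Idx K) := by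
    intro g
    have hg := hj g
    rcases bruhat K hK (g : ↥(RG K m)).2 with hb | ⟨t, u, v, x, t', u', v', e⟩
    · obtain ⟨t, u, v, x, e⟩ := (mem_B_iff K hK _).1 hb
      rw [e] at hg
      have h2 : Commute (tor K m (-1)) (uEl K m t u v) := by
        simpa using hg.mul_right (hjx x).inv_right
      obtain ⟨rfl, rfl⟩ := hfix t u v h2
      exact ⟨Sum.inl (u, x), e.symm⟩
    · have e1 : tor K m (-1) * uEl K m t u v * (tor K m (-1))⁻¹ * tor K m x * nG K hK *
          (tor K m (-1) * uEl K m t' u' v' * (tor K m (-1))⁻¹) =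
          uEl K m t u v * tor K m x * nG K hK * uEl K m t' u' v' := by
        have h3 : tor K m (-1) * (uEl K m t u v * tor K m x * nG K hK * uEl K m t' u' v') * (tor K m (-1))⁻¹ =
            uEl K m t u v * tor K m x * nG K hK * uEl K m t' u' v' := by
          rw [← e, hg.eq, mul_inv_cancel_right]
        refine Eq.trans ?_ h3
        have h4 : (tor K m (-1))⁻¹ * (tor K m x * nG K hK) = tor K m x * nG K hK * (tor K m (-1))⁻¹ :=
          ((hjx x).mul_right hjn).inv_left.eq
        calc _ = tor K m (-1) * uEl K m t u v * ((tor K m (-1))⁻¹ * (tor K m x * nG K hK)) * tor K m (-1) *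
              uEl K m t' u' v' * (tor K m (-1))⁻¹ := by simp [mul_assoc]
          _ = _ := by rw [h4]; simp [mul_assoc]
      rw [tor_conj_uEl K hK, tor_conj_uEl K hK] at e1
      obtain ⟨a1, a2, a3, -, b1, b2, b3⟩ := bruhat_unique K hK e1
      have c1 : Commute (tor K m (-1)) (uEl K m t u v) := mul_inv_eq_iff_eq_mul.1
        ((tor_conj_uEl K hK (-1) t u v).trans (by rw [a1, a2, a3]))
      have c2 : Commute (tor K m (-1)) (uEl K m t' u' v') := mul_inv_eq_iff_eq_mul.1
        ((tor_conj_uEl K hK (-1) t' u' v').trans (by rw [b1, b2, b3]))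
      obtain ⟨rfl, rfl⟩ := hfix t u v c1
      obtain ⟨rfl, rfl⟩ := hfix t' u' v' c2
      exact ⟨Sum.inr (u, x, u'), e.symm⟩
  choose F hF using hsurj
  refine le_trans (Nat.card_le_card_of_injective F fun a b h => Subtype.ext (Subtype.ext ?_)) ?_
  · rw [← hF a, ← hF b, h]
  · have h1 := Fintype.one_lt_card (α := K)
    have h2 := Cfsg.Agent.Linear.card_PSL_two_mul (F := K)
    rw [Cfsg.Agent.Linear.gcd_two_of_odd (odd_card K hK)] at h2
    rw [Nat.card_sum, Nat.card_prod, Nat.card_prod, Nat.card_prod, Nat.card_prod, Nat.card_units,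
      show Nat.card (Multiplicative (ZMod 2)) = 2 by rw [Nat.card_congr Multiplicative.toAdd, Nat.card_zmod],
      h2, Nat.card_eq_fintype_card]
    obtain ⟨k, hk⟩ : ∃ k, Fintype.card K = k + 1 := ⟨Fintype.card K - 1, by omega⟩
    rw [hk]
    simp only [Nat.add_sub_cancel]
    ring_nf
    exact le_refl _

/-- The centraliser of the involution. -/
theorem cent_equiv : Nonempty (↥(Subgroup.centralizer {jT K hK}) ≃*
    Multiplicative (ZMod 2) × Matrix.ProjectiveSpecialLinearGroup (Fin 2) K) := by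
  have hi := centHom_injective K hK
  refine ⟨(MulEquiv.ofBijective (centHom K hK) ((Nat.bijective_iff_injective_and_card _).2 ⟨hi, ?_⟩)).symm⟩
  exact le_antisymm (Nat.card_le_card_of_injective _ hi) (card_cent_le K hK)

/-- The elementary abelian group of order 8. -/
theorem exists_elem_eight : ∃ E : Subgroup ↥(RG K m), Nat.card E = 8 ∧ ∀ x ∈ E, x * x = 1 := by
  let i2 : SL(2, K) := ⟨!![0, 1; -1, 0], by simp [Matrix.det_fin_two]⟩
  let k2 : SL(2, K) := ⟨!![1, 1; 1, -1], by
    have h3 : (3 : K) = 0 := by exact_mod_cast CharP.cast_eq_zero K 3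
    simp [Matrix.det_fin_two]
    linear_combination -h3⟩
  have hv : ∀ a b : SL(2, K), (a * b).1 = a.1 * b.1 := Cfsg.Agent.Chev.RankOne.sl_mul_val
  have h3 : (3 : K) = 0 := by exact_mod_cast CharP.cast_eq_zero K 3
  have hii : i2 * i2 = -1 := by
    refine Subtype.ext ?_
    rw [hv]
    show _ = -(1 : Matrix (Fin 2) (Fin 2) K)
    ext a b
    fin_cases a <;> fin_cases b <;> simp [i2, Matrix.mul_apply, Fin.sum_univ_two]
  have hkk : k2 * k2 = -1 := by
    refine Subtype.ext ?_
    rw [hv]
    show _ = -(1 : Matrix (Fin 2) (Fin 2) K)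
    ext a b
    fin_cases a <;> fin_cases b <;> simp [k2, Matrix.mul_apply, Fin.sum_univ_two] <;> linear_combination h3
  have hik : i2 * k2 = -1 * (k2 * i2) := by
    refine Subtype.ext ?_
    rw [hv, hv (-1), hv]
    show _ = -(1 : Matrix (Fin 2) (Fin 2) K) * _
    rw [neg_mul, one_mul]
    ext a b
    fin_cases a <;> fin_cases b <;> simp [i2, k2, Matrix.mul_apply, Fin.sum_univ_two]
  let A : ↥(RG K m) := ⟨lHom K m i2, lHom_mem K hK i2⟩
  let B : ↥(RG K m) := ⟨lHom K m k2, lHom_mem K hK k2⟩
  have hA : A * A = 1 := Subtype.ext (by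
    show lHom K m i2 * lHom K m i2 = 1
    rw [← map_mul, hii, lHom_neg_one])
  have hB : B * B = 1 := Subtype.ext (by
    show lHom K m k2 * lHom K m k2 = 1
    rw [← map_mul, hkk, lHom_neg_one])
  have hJ : jT K hK * jT K hK = 1 := Subtype.ext (tor_negOne_sq K hK)
  have hAB : Commute A B := Subtype.ext (by
    show lHom K m i2 * lHom K m k2 = lHom K m k2 * lHom K m i2
    rw [← map_mul, hik, map_mul, lHom_neg_one, one_mul, map_mul])
  have hJA : Commute (jT K hK) A := Subtype.ext (negOne_commute_lHom K hK i2).eq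
  have hJB : Commute (jT K hK) B := Subtype.ext (negOne_commute_lHom K hK k2).eq
  have ctwo : ∀ {x y : ↥(RG K m)} (hx : x * x = 1) (hy : y * y = 1), Commute x y →
      ∀ e f, Commute (twoHom x hx e) (twoHom y hy f) := by
    intro x y hx hy hc e f
    show Commute (if e = 1 then 1 else x) (if f = 1 then 1 else y)
    split_ifs <;> first | exact Commute.one_left _ | exact Commute.one_right _ | exact hc
  let φAB := (twoHom A hA).noncommCoprod (twoHom B hB) (ctwo hA hB hAB)
  have hcJ : ∀ e p, Commute (twoHom (jT K hK) hJ e) (φAB p) := fun e p => by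
    rw [MonoidHom.noncommCoprod_apply]
    exact (ctwo hJ hA hJA _ _).mul_right (ctwo hJ hB hJB _ _)
  let φ := (twoHom (jT K hK) hJ).noncommCoprod φAB hcJ
  have h01 : Multiplicative.ofAdd (1 : ZMod 2) ≠ 1 := by decide
  have t1 : ∀ (x : ↥(RG K m)) (hx : x * x = 1), twoHom x hx (Multiplicative.ofAdd 1) = x := fun x hx => by
    show (if Multiplicative.ofAdd (1 : ZMod 2) = 1 then 1 else x) = x
    exact if_neg h01
  have hnot : ∀ g : SL(2, K), g.1 0 1 ≠ 0 → lHom K m g ≠ 1 := by
    intro g hg h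
    rcases lHom_eq_one K m h with rfl | rfl
    · exact hg (by simp)
    · exact hg (by simp)
  have hinj : Function.Injective φ := by
    rw [injective_iff_map_eq_one]
    rintro ⟨e, a, b⟩ h
    simp only [φ, φAB, MonoidHom.noncommCoprod_apply] at h
    rcases zmodTwo_cases e with rfl | rfl <;> rcases zmodTwo_cases a with rfl | rfl <;>
      rcases zmodTwo_cases b with rfl | rfl <;>
      simp only [map_one, t1, one_mul, mul_one] at h
    · rfl
    · exact absurd (congrArg Subtype.val h) (hnot k2 (by simp [k2]))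
    · exact absurd (congrArg Subtype.val h) (hnot i2 (by simp [i2]))
    · refine absurd (congrArg Subtype.val h) ?_
      show lHom K m i2 * lHom K m k2 ≠ 1
      rw [← map_mul]
      exact hnot _ (by rw [hv]; simp [i2, k2, Matrix.mul_apply, Fin.sum_univ_two])
    all_goals exfalso
    · exact tor_negOne_ne K hK (congrArg Subtype.val h)
    · refine negOne_ne_lHom K hK k2⁻¹ ?_
      rw [map_inv]
      exact mul_eq_one_iff_eq_inv.1 (congrArg Subtype.val h)
    · refine negOne_ne_lHom K hK i2⁻¹ ?_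
      rw [map_inv]
      exact mul_eq_one_iff_eq_inv.1 (congrArg Subtype.val h)
    · refine negOne_ne_lHom K hK (i2 * k2)⁻¹ ?_
      rw [map_inv, map_mul]
      exact mul_eq_one_iff_eq_inv.1 (congrArg Subtype.val h)
  refine ⟨φ.range, ?_, ?_⟩
  · rw [← Nat.card_congr (MonoidHom.ofInjective hinj).toEquiv]
    simp [Nat.card_congr Multiplicative.toAdd, Nat.card_zmod]
  · rintro _ ⟨p, rfl⟩
    rw [← map_mul]
    have : p * p = 1 := by
      revert p
      decide
    rw [this, map_one]

theorem not_sixteen_dvd : ¬ 16 ∣ Nat.card ↥(RG K m) := by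
  rw [ChevTwOrd.order_G2 hK]
  set q := 3 ^ (2 * m + 1) with hq
  have h8 : q % 8 = 3 := by
    rw [hq, pow_succ, pow_mul, Nat.mul_mod, Nat.pow_mod]
    norm_num
  intro h
  have hodd : ¬ 2 ∣ q ^ 3 := fun h => by
    have := Nat.prime_two.dvd_of_dvd_pow h
    omega
  have h16 : 16 ∣ (q - 1) * (q ^ 3 + 1) := by
    rw [mul_assoc] at h
    exact (Nat.Coprime.pow_left 4 ((Nat.prime_two.coprime_iff_not_dvd).2 hodd)).dvd_of_dvd_mul_left h
  obtain ⟨a, ha⟩ : ∃ a, q = 8 * a + 3 := ⟨q / 8, by omega⟩
  rw [ha] at h16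
  have e : (8 * a + 3 - 1) * ((8 * a + 3) ^ 3 + 1) =
      16 * (256 * a ^ 4 + 352 * a ^ 3 + 180 * a ^ 2 + 41 * a + 3) + 8 := by
    rw [show 8 * a + 3 - 1 = 8 * a + 2 by omega]
    ring
  rw [e] at h16
  omega

/-- The Sylow 2-subgroups. -/
theorem sylow_two (S : Sylow 2 ↥(RG K m)) :
    Nat.card S = 8 ∧ ∀ x ∈ S, x * x = 1 := by
  haveI : Fact (Nat.Prime 2) := ⟨Nat.prime_two⟩
  obtain ⟨E, hE, hEx⟩ := exists_elem_eight K hK
  obtain ⟨T, hT⟩ := (IsPGroup.of_card (n := 3) hE : IsPGroup 2 E).exists_le_sylow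
  have hTE : E = (T : Subgroup ↥(RG K m)) := by
    refine Subgroup.eq_of_le_of_card_ge hT ?_
    obtain ⟨k, hk⟩ := T.isPGroup'.exists_card_eq
    rw [hE, hk]
    refine Nat.pow_le_pow_right (by norm_num) (show k ≤ 3 from ?_)
    by_contra hcon
    exact not_sixteen_dvd K hK ((pow_dvd_pow 2 (show 4 ≤ k by omega)).trans (hk ▸ Subgroup.card_subgroup_dvd_card _))
  have e := Sylow.equiv S T
  refine ⟨?_, fun x hx => ?_⟩
  · show Nat.card ↥(S : Subgroup ↥(RG K m)) = 8
    rw [Nat.card_congr e.toEquiv, ← hTE, hE]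
  · have hmem : ((e ⟨x, hx⟩ : ↥(T : Subgroup ↥(RG K m))) : ↥(RG K m)) ∈ E := by
      rw [hTE]; exact (e ⟨x, hx⟩).2
    have h1 := hEx _ hmem
    have h2 : e (⟨x, hx⟩ * ⟨x, hx⟩) = e 1 := by
      rw [map_mul, map_one]
      exact Subtype.ext h1
    exact congrArg Subtype.val (e.injective h2)

/-- The Sylow subgroups at primes `p > 3`. -/
theorem sylow_cyclic {p : ℕ} [Fact p.Prime] (hp : 3 < p) (P : Sylow p ↥(RG K m)) :
    IsCyclic (P : Subgroup ↥(RG K m)) := by
  classical
  have hp' : p.Prime := Fact.out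
  set q := Fintype.card K with hq
  have hq1 : 1 < q := Fintype.one_lt_card
  have hpq : ¬ p ∣ q := fun h => by
    rw [hK] at h
    have := (Nat.prime_dvd_prime_iff_eq hp' Nat.prime_three).1 (hp'.dvd_of_dvd_pow h)
    omega
  by_cases h6 : p ∣ q ^ 2 - q + 1
  · have hle : RG K m ≤ chevG2.group K := by
      rw [group_eq (ChevTw.rulesG2 K)]
      exact (grpG2 hK).Tw_le
    let f : ↥(RG K m) →* ↥(chevG2.group K) := Subgroup.inclusion hle
    have hc := isCyclic_of_isPGroup_G2 K hp h6 (P.isPGroup'.map f)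
    let e := (P : Subgroup ↥(RG K m)).equivMapOfInjective f (Subgroup.inclusion_injective hle)
    exact isCyclic_of_surjective e.symm.toMonoidHom e.symm.surjective
  · obtain ⟨R⟩ := Sylow.nonempty (p := p) (G := SL(2, K))
    haveI := Cfsg.Agent.Linear.isCyclic_sylow_SL_two p (by omega) hpq R
    let f : ↥(R : Subgroup SL(2, K)) →* ↥(RG K m) :=
      (((lHom K m).codRestrict (RG K m) (lHom_mem K hK))).comp (R : Subgroup SL(2, K)).subtype
    have hf : Function.Injective f := by
      rw [injective_iff_map_eq_one]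
      intro r hr
      have h1 : lHom K m (r : SL(2, K)) = 1 := congrArg Subtype.val hr
      rcases lHom_eq_one K m h1 with h | h
      · exact Subtype.ext h
      · exfalso
        have hr2 : r ^ 2 = 1 := Subtype.ext (by rw [SubmonoidClass.coe_pow, h, neg_one_sq]; rfl)
        have hd : orderOf r ∣ 2 := orderOf_dvd_of_pow_eq_one hr2
        obtain ⟨k, hk⟩ := IsPGroup.iff_orderOf.1 R.isPGroup' r
        rcases (Nat.dvd_prime Nat.prime_two).1 hd with h' | h'
        · have h'' : (r : SL(2, K)) = 1 := congrArg Subtype.val (orderOf_eq_one_iff.1 h')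
          rw [h] at h''
          have := congrArg (fun M : SL(2, K) => M.1 0 0) h''
          simp at this
          exact negOne_ne_one K hK this
        · rw [hk] at h'
          rcases Nat.eq_zero_or_pos k with rfl | hk0
          · simp at h'
          · have := Nat.le_self_pow (show k ≠ 0 by omega) p
            omega
    have hcard : Nat.card f.range = p ^ (Nat.card ↥(RG K m)).factorization p := by
      rw [← Nat.card_congr (MonoidHom.ofInjective hf).toEquiv, R.card_eq_multiplicity,
        Cfsg.Agent.Linear.card_SL_two, ChevTwOrd.order_G2 hK, ← hK, ← hq]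
      congr 1
      have hz : q ^ 3 + 1 = (q + 1) * (q ^ 2 - q + 1) := by
        zify [Nat.le_self_pow two_ne_zero q]
        ring
      have e : q ^ 3 * (q - 1) * (q ^ 3 + 1) = q * (q - 1) * (q + 1) * (q ^ 2 * (q ^ 2 - q + 1)) := by
        rw [hz]; ring
      have h1 : q * (q - 1) * (q + 1) ≠ 0 := by
        have : q - 1 ≠ 0 := by omega
        positivity
      have h2 : q ^ 2 * (q ^ 2 - q + 1) ≠ 0 := by positivity
      have h3 : ¬ p ∣ q ^ 2 * (q ^ 2 - q + 1) := fun h => by
        rcases hp'.dvd_mul.1 h with h | h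
        · exact hpq (hp'.dvd_of_dvd_pow h)
        · exact h6 h
      rw [e, Nat.factorization_mul h1 h2, Finsupp.add_apply, Nat.factorization_eq_zero_of_not_dvd h3, add_zero]
    obtain ⟨T, hT⟩ := (IsPGroup.of_card hcard : IsPGroup p f.range).exists_le_sylow
    have hTe : f.range = (T : Subgroup ↥(RG K m)) :=
      Subgroup.eq_of_le_of_card_ge hT (by rw [hcard, T.card_eq_multiplicity])
    haveI hfc : IsCyclic f.range := isCyclic_of_surjective f.rangeRestrict f.rangeRestrict_surjective
    haveI : IsCyclic (T : Subgroup ↥(RG K m)) := hTe ▸ hfc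
    exact isCyclic_of_surjective (Sylow.equiv T P) (Sylow.equiv T P).surjective

end Cfsg.Agent.ReeG2
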