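import Cfsg.Agent.CentralExt.ReeG2
import Cfsg.Agent.ChevTwOrd.G2
import Cfsg.Agent.S0111
import Mathlib.RepresentationTheory.Character
import Mathlib.RepresentationTheory.Irreducible
import Mathlib.Analysis.Fourier.FiniteAbelian.PontryaginDuality

/-!
# The least degree of a non-linear irreducible representation of ²G₂(q)
-/

set_option autoImplicit false

namespace Cfsg.Agent.ReeMinDegree

open Cfsg.Lie Cfsg.Agent.ChevTw Cfsg.Agent.KSG.TwAutG2
open Module (finrank)
open Cfsg.Agent.ReeG2 (RG)

section Rep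

variable {G : Type*} [Group G] {V : Type*} [AddCommGroup V] [Module ℂ V] [FiniteDimensional ℂ V]

/-- The sum of a character over a finite group mapped to `G`. -/
theorem sum_char {A : Type*} [Group A] [Fintype A] (ρ : Representation ℂ A V) :
    ∑ a : A, ρ.character a = (Fintype.card A : ℂ) * (finrank ℂ ρ.invariants : ℂ) := by
  have : Invertible (Nat.card A : ℂ) := invertibleOfNonzero (Nat.cast_ne_zero.2 Nat.card_pos.ne')
  rw [← ρ.card_inv_mul_sum_char_eq_finrank, Nat.card_eq_fintype_card, mul_inv_cancel_left₀]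
  exact Nat.cast_ne_zero.2 Fintype.card_ne_zero

/-- An irreducible representation with trivial action has dimension at most one. -/
theorem finrank_le_one {ρ : Representation ℂ G V} [ρ.IsIrreducible] (h : ∀ g, ρ g = 1) :
    finrank ℂ V ≤ 1 := by
  rcases subsingleton_or_nontrivial V with hV | hV
  · rw [Module.finrank_zero_of_subsingleton]
    exact zero_le_one
  obtain ⟨v, hv⟩ := exists_ne (0 : V)
  let W : Subrepresentation ρ := ⟨Submodule.span ℂ {v}, fun g w hw => by
    rw [h g]
    exact hw⟩
  rcases eq_bot_or_eq_top W with hW | hW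
  · exfalso
    have h2 : (Submodule.span ℂ {v} : Submodule ℂ V) = ⊥ := congrArg Subrepresentation.toSubmodule hW
    exact hv (by simpa using h2)
  · have h2 : (Submodule.span ℂ {v} : Submodule ℂ V) = ⊤ := congrArg Subrepresentation.toSubmodule hW
    rw [← finrank_top ℂ V, ← h2]
    exact (finrank_span_le_card ({v} : Set V)).trans (by simp)

end Rep

variable {K : Type*} [Field K] [Fintype K] {m : ℕ} (hK : Fintype.card K = 3 ^ (2 * m + 1))

/-- The group `U' = {(0, u, v)}`. -/
noncomputable def uHom : Multiplicative (K × K) →* ↥(grpG2 hK).Tw where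
  toFun p := X hK 0 p.toAdd.1 p.toAdd.2
  map_one' := X_zero hK
  map_mul' p p' := by
    rw [X_mul]
    congr 1 <;> simp

/-- Its centre `{(0, 0, v)}`. -/
noncomputable def zHom : Multiplicative K →* ↥(grpG2 hK).Tw :=
  (uHom hK).comp (AddMonoidHom.inr K K).toMultiplicative

theorem uHom_apply (u v : K) : uHom hK (Multiplicative.ofAdd (u, v)) = X hK 0 u v := rfl

theorem zHom_apply (v : K) : zHom hK (Multiplicative.ofAdd v) = X hK 0 0 v := rfl

include hK in
theorem two_le_and_mul (hm : 1 ≤ m) {V : Type*} [AddCommGroup V] [Module ℂ V] [FiniteDimensional ℂ V]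
    (ρ : Representation ℂ ↥(grpG2 hK).Tw V) [ρ.IsIrreducible] (h2 : 2 ≤ finrank ℂ V) :
    Fintype.card K ^ 2 - Fintype.card K + 1 ≤ finrank ℂ V := by
  classical
  have := charG2 hK
  set q := Fintype.card K with hq
  set d := finrank ℂ V with hd
  have hq0 : (q : ℂ) ≠ 0 := Nat.cast_ne_zero.2 Fintype.card_ne_zero
  obtain ⟨ψ, hψ⟩ : ∃ ψ : AddChar K ℂ, ψ 1 ≠ 1 := AddChar.exists_apply_ne_zero.2 one_ne_zero
  have hψsum : ∑ v : K, ψ v = 0 := AddChar.sum_eq_zero_of_ne_one fun h => hψ (by rw [h]; rfl)
  -- invariants of the centre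
  let ρz : Representation ℂ (Multiplicative K) V := ρ.comp (zHom hK)
  set f := finrank ℂ ρz.invariants with hf
  set c := ρ.character (X hK 0 0 1) with hc
  have hconst : ∀ v : K, v ≠ 0 → ρ.character (X hK 0 0 v) = c := by
    intro v hv
    rw [hc, ← ρ.char_conj (X hK 0 0 1) (H hK (Units.mk0 v hv)), H_conj]
    simp
  have hfz : (d : ℂ) + ((q : ℂ) - 1) * c = q * f := by
    have h := sum_char ρz
    rw [Fintype.card_multiplicative, ← hq, ← hf] at h
    rw [← h, ← Multiplicative.ofAdd.sum_comp, ← Finset.add_sum_erase _ _ (Finset.mem_univ (0 : K))]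
    congr 1
    · rw [ofAdd_zero, Representation.char_one]
    · rw [Finset.sum_congr rfl fun v hv => (show ρz.character
        (Multiplicative.ofAdd v) = c from hconst v (Finset.ne_of_mem_erase hv)), Finset.sum_const,
        Finset.card_erase_of_mem (Finset.mem_univ _), Finset.card_univ, nsmul_eq_mul, Nat.cast_sub Fintype.card_pos]
      simp [hq]
  -- a multiplicity on the group `U'`
  let φ : Multiplicative (K × K) →* ℂ :=
    { toFun := fun p => ψ p.toAdd.2
      map_one' := ψ.map_zero_eq_one
      map_mul' := fun p p' => ψ.map_add_eq_mul _ _ }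
  let ρ' : Representation ℂ (Multiplicative (K × K)) V :=
    { toFun := fun p => φ p • ρ (uHom hK p)
      map_one' := by simp
      map_mul' := fun p p' => by simp [smul_smul, mul_comm] }
  set μ := finrank ℂ ρ'.invariants with hμ
  have hmu : (d : ℂ) - c = (q : ℂ) ^ 2 * μ := by
    have h := sum_char ρ'
    rw [Fintype.card_multiplicative, Fintype.card_prod, ← hq, ← hμ] at h
    rw [pow_two, ← Nat.cast_mul, ← h, ← Multiplicative.ofAdd.sum_comp, Fintype.sum_prod_type,
      ← Finset.add_sum_erase _ _ (Finset.mem_univ (0 : K))]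
    have hchar : ∀ u v, ρ'.character (Multiplicative.ofAdd (u, v)) = ψ v * ρ.character (X hK 0 u v) := fun u v => by
      show LinearMap.trace ℂ V (φ (Multiplicative.ofAdd (u, v)) • ρ (uHom hK _)) = _
      rw [map_smul, smul_eq_mul]
      rfl
    have hzero : ∀ u ∈ (Finset.univ : Finset K).erase 0, ∑ v : K, ρ'.character (Multiplicative.ofAdd (u, v)) = 0 := by
      intro u hu
      have hu0 := Finset.ne_of_mem_erase hu
      have hconj : ∀ v, ρ.character (X hK 0 u v) = ρ.character (X hK 0 u 0) := by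
        intro v
        rw [← ρ.char_conj (X hK 0 u 0) (X hK (v / u) 0 0)]
        congr 1
        rw [eq_mul_inv_iff_mul_eq, X_mul, X_mul]
        congr 1
        · simp
        · simp
        · simp
          field_simp
          ring
      simp only [hchar, hconj, ← Finset.sum_mul, hψsum, zero_mul]
    rw [Finset.sum_eq_zero hzero, add_zero]
    simp only [hchar]
    have h1 : ∑ v ∈ (Finset.univ : Finset K).erase 0, ψ v * ρ.character (X hK 0 0 v) = -c := by
      rw [Finset.sum_congr rfl fun v hv => by rw [hconst v (Finset.ne_of_mem_erase hv)], ← Finset.sum_mul]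
      have := Finset.add_sum_erase _ (fun v => ψ v) (Finset.mem_univ (0 : K))
      rw [hψsum, AddChar.map_zero_eq_one] at this
      linear_combination c * this
    rw [← Finset.add_sum_erase _ _ (Finset.mem_univ (0 : K)), h1, AddChar.map_zero_eq_one, X_zero,
      Representation.char_one, one_mul]
    ring
  have hdeq : d = f + (q - 1) * q * μ := by
    have h : (d : ℂ) = ((f + (q - 1) * q * μ : ℕ) : ℂ) := by
      rw [Nat.cast_add, Nat.cast_mul, Nat.cast_mul, Nat.cast_sub (show 1 ≤ q from Fintype.card_pos), Nat.cast_one]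
      refine mul_left_cancel₀ hq0 ?_
      linear_combination hfz + ((q : ℂ) - 1) * hmu
    exact_mod_cast h
  have hq3 : q % 8 = 3 := by
    rw [hK, pow_succ, pow_mul, Nat.mul_mod, Nat.pow_mod]; norm_num
  -- faithfulness
  have hμ0 : μ ≠ 0 := by
    intro h0
    rw [h0, mul_zero, add_zero] at hdeq
    have htop : ρz.invariants = ⊤ :=
      Submodule.eq_top_of_finrank_eq (by rw [← hf, ← hdeq])
    have hfix : ρ (X hK 0 0 1) = 1 := LinearMap.ext fun w => by
      have hw : w ∈ ρz.invariants := htop ▸ Submodule.mem_top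
      exact hw (Multiplicative.ofAdd (1 : K))
    obtain ⟨len, hR⟩ := (ChevTw.rulesG2 K).root
    have hsimple : IsSimpleGroup ↥(grpG2 hK).Tw := (ChevTwOrd.simple_G2 hm hK).1
    let N : Subgroup ↥(grpG2 hK).Tw :=
      { carrier := {g | ρ g = 1}
        one_mem' := map_one ρ
        mul_mem' := fun {a b} (ha : ρ a = 1) (hb : ρ b = 1) => (map_mul ρ a b).trans (by rw [ha, hb, one_mul])
        inv_mem' := fun {a} (ha : ρ a = 1) => by
          show ρ a⁻¹ = 1
          have := map_mul ρ a⁻¹ a
          rw [inv_mul_cancel, map_one, ha, mul_one] at this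
          exact this.symm }
    have hN : N.Normal := ⟨fun n (hn : ρ n = 1) g => by
      show ρ (g * n * g⁻¹) = 1
      rw [map_mul, map_mul, hn, mul_one, ← map_mul, mul_inv_cancel, map_one]⟩
    rcases hN.eq_bot_or_eq_top with e | e
    · have h1 : X hK 0 0 1 ∈ N := hfix
      rw [e, Subgroup.mem_bot, ← X_zero hK] at h1
      exact one_ne_zero (X_inj hK h1).2.2
    · have := finrank_le_one (ρ := ρ) fun g => (show g ∈ N from e ▸ Subgroup.mem_top g)
      omega
  by_contra hlt
  rw [not_le] at hlt
  have hq1 : q ^ 2 - q = (q - 1) * q := by rw [pow_two, Nat.sub_mul, one_mul]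
  rw [hq1] at hlt
  have hμ1 : μ = 1 := by
    by_contra hne
    have : (q - 1) * q * 2 ≤ (q - 1) * q * μ := Nat.mul_le_mul_left _ (by omega)
    have : 1 ≤ (q - 1) * q := Nat.one_le_iff_ne_zero.2 (Nat.mul_ne_zero (by omega) (by omega))
    omega
  have hf0 : f = 0 := by
    rw [hμ1, mul_one] at hdeq
    omega
  -- the involution has trace zero
  have hbot : ρz.invariants = ⊥ :=
    Submodule.finrank_eq_zero.1 (hf ▸ hf0)
  have hsum0 : ∑ v : K, ρ (X hK 0 0 v) = 0 := by
    refine LinearMap.ext fun w => ?_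
    have hmem : (∑ v : K, ρ (X hK 0 0 v)) w ∈ ρz.invariants := by
      intro a
      show ρ (X hK 0 0 a.toAdd) _ = _
      simp only [LinearMap.sum_apply, map_sum]
      rw [← Equiv.sum_comp (Equiv.addLeft a.toAdd) (fun v => ρ (X hK 0 0 v) w)]
      refine Finset.sum_congr rfl fun v _ => ?_
      rw [← Module.End.mul_apply, ← map_mul, X_mul]
      congr 3 <;> simp
    rw [hbot, Submodule.mem_bot] at hmem
    simpa using hmem
  have hj : ∀ w : K, ρ.character (H hK (-1) * X hK 0 0 w) = ρ.character (H hK (-1)) := by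
    intro w
    rw [← ρ.char_conj (H hK (-1)) (X hK 0 0 w)]
    congr 1
    have e := H_conj hK (-1) 0 0 w
    simp only [mul_zero, Units.val_neg, Units.val_one, neg_mul, one_mul] at e
    have e' : H hK (-1) * X hK 0 0 (-w) = X hK 0 0 w * H hK (-1) := by
      rw [← mul_inv_eq_iff_eq_mul]
      have e2 := H_conj hK (-1) 0 0 (-w)
      simpa using e2
    have hinv : X hK 0 0 w * X hK 0 0 (-w) = 1 := by
      rw [X_mul, ← X_zero hK]; congr 1 <;> simp
    rw [eq_inv_of_mul_eq_one_right hinv] at e'
    rw [← e', mul_assoc, inv_eq_of_mul_eq_one_right hinv, X_mul]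
    congr 2
    · simp
    · simp
    · have h3 := CentralExt.Ree.three_eq_zero hK
      simp
      linear_combination w * h3
  have hjzero : ρ.character (H hK (-1)) = 0 := by
    have h : ∑ w : K, ρ.character (H hK (-1) * X hK 0 0 w) = 0 := by
      simp only [Representation.character, map_mul]
      rw [← map_sum, ← Finset.mul_sum, hsum0, mul_zero, map_zero]
    simp only [hj, Finset.sum_const, Finset.card_univ, nsmul_eq_mul] at h
    exact (mul_eq_zero.1 h).resolve_left hq0
  -- the four-group
  obtain ⟨F, g, S, hinj, hSF, hFj, hg3, hpsi⟩ := CentralExt.Ree.eight_frame hK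
  obtain ⟨h01, hpp, -⟩ := CentralExt.Ree.zmodTwo_tables
  set F2 := F.comp (MonoidHom.inr (Multiplicative (ZMod 2)) (Multiplicative (ZMod 2) × Multiplicative (ZMod 2))) with hF2
  have hF2inj : Function.Injective F2 := hinj.comp fun a b h => (Prod.ext_iff.1 h).2
  have hmemS : ∀ p, F p ∈ (S : Subgroup ↥(RG K m)) := fun p => hSF ▸ ⟨p, rfl⟩
  have hQle : F2.range ≤ (S : Subgroup ↥(RG K m)) := by
    rintro _ ⟨p, rfl⟩
    exact hmemS _
  have hQi : F2.range.relIndex (S : Subgroup ↥(RG K m)) = 2 := by
    have h := Subgroup.relIndex_mul_relIndex ⊥ F2.range (S : Subgroup ↥(RG K m)) bot_le hQle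
    rw [Subgroup.relIndex_bot_left, Subgroup.relIndex_bot_left, hSF,
      ← Nat.card_congr (MonoidHom.ofInjective hinj).toEquiv,
      ← Nat.card_congr (MonoidHom.ofInjective hF2inj).toEquiv] at h
    rw [hSF]
    simp [Nat.card_congr Multiplicative.toAdd, Nat.card_zmod] at h
    omega
  have hju : orderOf (F (Multiplicative.ofAdd 1, 1, 1)) = 2 := by
    refine orderOf_eq_prime (by rw [pow_two, ← map_mul, hpp, map_one]) fun h => h01 ?_
    exact (Prod.ext_iff.1 (hinj (h.trans (map_one F).symm))).1
  obtain ⟨g₁, ⟨p, hp⟩⟩ : ∃ g₁, g₁ * F (Multiplicative.ofAdd 1, 1, 1) * g₁⁻¹ ∈ F2.range := by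
    refine ((S0111.result S F2.range hQle hQi _ hju (hmemS _) ?_).resolve_left ?_)
    · rintro ⟨p, hp⟩
      exact h01 (Prod.ext_iff.1 (hinj hp)).1.symm
    · rintro ⟨M, hM, hMi, -⟩
      have hsimple : IsSimpleGroup ↥(RG K m) := (ChevTwOrd.simple_G2 hm hK).1
      rcases hM.eq_bot_or_eq_top with rfl | rfl
      · rw [Subgroup.index_bot] at hMi
        have h4 := Subgroup.card_subgroup_dvd_card (S : Subgroup ↥(RG K m))
        rw [hSF, ← Nat.card_congr (MonoidHom.ofInjective hinj).toEquiv, hMi] at h4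
        simp [Nat.card_congr Multiplicative.toAdd, Nat.card_zmod] at h4
      · simp at hMi
  let ρG : Representation ℂ ↥(RG K m) V := ρ
  have hjt : ρG.character (F (Multiplicative.ofAdd 1, 1, 1)) = 0 := by
    rw [hFj]; exact hjzero
  have hp0 : ρG.character (F2 p) = 0 := by
    rw [hp, ρG.char_conj]; exact hjt
  have hstep : ∀ r, ρG.character (F2 (r.2, r.1 * r.2)) = ρG.character (F2 r) := fun r => by
    rw [← ρG.char_conj (F2 r) g]
    exact congrArg ρG.character (hpsi (1, r)).symm
  have hp1 : p ≠ 1 := by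
    rintro rfl
    rw [map_one, eq_comm, mul_inv_eq_one, mul_eq_left] at hp
    exact h01 (Prod.ext_iff.1 (hinj (hp.trans (map_one F).symm))).1
  have horb : ∀ p r : Multiplicative (ZMod 2) × Multiplicative (ZMod 2), p ≠ 1 → r ≠ 1 →
      r = p ∨ r = (p.2, p.1 * p.2) ∨ r = (p.1 * p.2, p.2 * (p.1 * p.2)) := by decide
  have hall : ∀ r, r ≠ 1 → ρG.character (F2 r) = 0 := by
    intro r hr
    rcases horb p r hp1 hr with rfl | rfl | rfl
    · exact hp0
    · rw [hstep, hp0]
    · rw [hstep (p.2, p.1 * p.2), hstep, hp0]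
  let ρV : Representation ℂ (Multiplicative (ZMod 2) × Multiplicative (ZMod 2)) V := ρG.comp F2
  have h4 := sum_char ρV
  rw [Finset.sum_eq_single 1 (fun r _ hr => (show ρV.character r = 0 from hall r hr)) (fun h => absurd (Finset.mem_univ _) h),
    Representation.char_one, Fintype.card_prod, Fintype.card_multiplicative, ZMod.card] at h4
  have h4' : d = 4 * finrank ℂ ρV.invariants := by exact_mod_cast h4
  rw [hμ1, mul_one, hf0, zero_add] at hdeq
  obtain ⟨a, ha⟩ : ∃ a, q = 8 * a + 3 := ⟨q / 8, by omega⟩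
  rw [ha, show (8 * a + 3 - 1) * (8 * a + 3) = 4 * (16 * a ^ 2 + 10 * a + 1) + 2 by
    rw [show 8 * a + 3 - 1 = 8 * a + 2 by omega]; ring] at hdeq
  omega

end Cfsg.Agent.ReeMinDegree
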