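import Cfsg.Agent.ReeG2.Base

/-!
Stabilisers in the doubly transitive action of `²G₂(q)` and the intersection property of its Sylow 3-subgroups
(owner: helper34).
-/

set_option autoImplicit false

namespace Cfsg.Agent.ReeG2

open Cfsg.Lie Cfsg.Agent.ChevGrp Cfsg.Agent.ChevTw

variable (K : Type*) [Field K] [Fintype K] {m : ℕ} (hK : Fintype.card K = 3 ^ (2 * m + 1))

/-- The twisted group. -/
noncomputable abbrev RG (m : ℕ) : Subgroup (GL chevG2.Idx K) := twistedG2 K (3 ^ m)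

/-- The point stabiliser. -/
noncomputable abbrev RB (m : ℕ) : Subgroup ↥(RG K m) :=
  (chevG2.borelSubgroup K ⊓ twistedG2 K (3 ^ m)).subgroupOf (RG K m)

include hK

theorem uEl_inv (t u v : K) : ∃ t' u' v', (uEl K m t u v)⁻¹ = uEl K m t' u' v' :=
  (mem_U_iff K hK _).1 (inv_mem (uEl_mem K hK t u v))

theorem tor_uEl_swap (x : Kˣ) (t u v : K) :
    ∃ t' u' v', uEl K m t u v * tor K m x = tor K m x * uEl K m t' u' v' := by
  have h := tor_conj_uEl K hK x⁻¹ t u v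
  rw [map_inv, inv_inv] at h
  refine ⟨_, _, _, (congrArg (tor K m x * ·) h).symm.trans ?_ |>.symm⟩
  simp [mul_assoc]

theorem tor_uEl_comm (x : Kˣ) (t u v : K) :
    ∃ t' u' v', tor K m x * uEl K m t u v = uEl K m t' u' v' * tor K m x := by
  have h := tor_conj_uEl K hK x t u v
  exact ⟨_, _, _, by rw [← h, inv_mul_cancel_right]⟩

theorem nG_uEl_notMem {t u v : K} (h : uEl K m t u v ≠ 1) :
    nG K hK * uEl K m t u v * (nG K hK)⁻¹ ∉ chevG2.borelSubgroup K ⊓ twistedG2 K (3 ^ m) := by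
  intro hb
  rw [borelSubgroup_eq (ChevTw.rulesG2 K) (hRG K)] at hb
  have h2 : nG K hK * uEl K m t u v * (nG K hK)⁻¹ ∈ (GS K).Vbar ⊓ (GS K).Bbar :=
    Subgroup.mem_inf.2 ⟨nG_conj_U K hK (uEl_mem_Ubar K hK t u v), hb.1⟩
  rw [(GS K).Vbar_inf_Bbar (ChevTw.rulesG2 K) (hRG K), Subgroup.mem_bot, mul_inv_eq_one, mul_eq_left] at h2
  exact h h2

theorem uEl_ne_one : uEl K m 0 (1 : K) 0 ≠ 1 := fun h => one_ne_zero (uEl_eq_one K hK h).2.1

theorem not_mem_B (t u v : K) (x : Kˣ) (t' u' v' : K) :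
    uEl K m t u v * tor K m x * nG K hK * uEl K m t' u' v' ∉
      chevG2.borelSubgroup K ⊓ twistedG2 K (3 ^ m) := by
  intro h
  have h1 : uEl K m t u v * tor K m x ∈ chevG2.borelSubgroup K ⊓ twistedG2 K (3 ^ m) :=
    (mem_B_iff K hK _).2 ⟨t, u, v, x, rfl⟩
  have h2 : uEl K m t' u' v' ∈ chevG2.borelSubgroup K ⊓ twistedG2 K (3 ^ m) :=
    (mem_B_iff K hK _).2 ⟨t', u', v', 1, by rw [map_one, mul_one]⟩
  have hn : nG K hK ∈ chevG2.borelSubgroup K ⊓ twistedG2 K (3 ^ m) := by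
    have := mul_mem (mul_mem (inv_mem h1) h) (inv_mem h2)
    simpa [mul_assoc] using this
  have h3 : uEl K m 0 (1 : K) 0 ∈ chevG2.borelSubgroup K ⊓ twistedG2 K (3 ^ m) :=
    (mem_B_iff K hK _).2 ⟨0, 1, 0, 1, by rw [map_one, mul_one]⟩
  exact nG_uEl_notMem K hK (uEl_ne_one K hK) (mul_mem (mul_mem hn h3) (inv_mem hn))

/-- The representative in the group. -/
noncomputable def nT : ↥(RG K m) := ⟨nG K hK, nG_mem K hK⟩

/-- A unipotent element in the group. -/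
noncomputable def uT (t u v : K) : ↥(RG K m) := ⟨uEl K m t u v, (uEl_mem K hK t u v).2⟩

/-- A torus element in the group. -/
noncomputable def tT (x : Kˣ) : ↥(RG K m) := ⟨tor K m x, tor_mem_Tw K hK x⟩

theorem mem_RB {g : ↥(RG K m)} :
    g ∈ RB K m ↔ (g : GL chevG2.Idx K) ∈ chevG2.borelSubgroup K ⊓ twistedG2 K (3 ^ m) := by
  rw [RB, Subgroup.mem_subgroupOf]

theorem nn_mem : nT K hK * nT K hK ∈ RB K m := by
  rw [mem_RB K hK, borelSubgroup_eq (ChevTw.rulesG2 K) (hRG K)]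
  refine Subgroup.mem_inf.2 ⟨(GS K).Hbar_le_Bbar ?_, (nT K hK * nT K hK).2⟩
  obtain ⟨hN, hc⟩ := nG_spec K hK
  exact TwGroup.mem_Hbar_of_conjP (ChevTw.rulesG2 K) (hRG K) (mul_mem hN hN) (hc.mul (hRG K) hc)
    fun r hr => by rw [act_append]; exact twG2_ok.winv _ r hr

theorem fix_base {h : ↥(RG K m)}
    (h1 : h • ((1 : ↥(RG K m)) : ↥(RG K m) ⧸ RB K m) = ((1 : ↥(RG K m)) : ↥(RG K m) ⧸ RB K m))
    (h2 : h • ((nT K hK : ↥(RG K m)) : ↥(RG K m) ⧸ RB K m) = ((nT K hK : ↥(RG K m)) : ↥(RG K m) ⧸ RB K m)) :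
    ∃ x, h = tT K hK x := by
  rw [MulAction.Quotient.smul_coe, QuotientGroup.eq, smul_eq_mul, mul_one, mul_one, inv_mem_iff,
    mem_RB K hK] at h1
  rw [MulAction.Quotient.smul_coe, QuotientGroup.eq, smul_eq_mul] at h2
  obtain ⟨t, u, v, x, hx⟩ := (mem_B_iff K hK _).1 h1
  refine ⟨x, Subtype.ext ?_⟩
  have h3 := inv_mem h2
  rw [mul_inv_rev, inv_inv, mem_RB K hK] at h3
  obtain ⟨t', u', v', y, hy⟩ := (mem_B_iff K hK _).1 h3
  obtain ⟨a, b, c, hc⟩ := tor_uEl_swap K hK y t' u' v'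
  obtain ⟨y', hy'⟩ := nG_conj_tor K hK y
  have e : uEl K m t u v * tor K m x * nG K hK * uEl K m 0 0 0 =
      uEl K m 0 0 0 * tor K m y' * nG K hK * uEl K m a b c := by
    rw [uEl_one K hK, mul_one, one_mul, ← hx, ← hy']
    have e2 : (h : GL chevG2.Idx K) * nG K hK =
        nG K hK * ((((nT K hK)⁻¹ * (h * nT K hK)) : ↥(RG K m)) : GL chevG2.Idx K) := by
      push_cast
      show _ = nG K hK * ((nG K hK)⁻¹ * ((h : GL chevG2.Idx K) * nG K hK))
      rw [mul_inv_cancel_left]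
    rw [e2, hy, hc]
    simp [mul_assoc]
  obtain ⟨rfl, rfl, rfl, -⟩ := bruhat_unique K hK e
  rw [hx, uEl_one K hK, one_mul]
  rfl

theorem fix_third {x : Kˣ} {t u v : K} (hu : uEl K m t u v ≠ 1)
    (h : tT K hK x • ((uT K hK t u v * nT K hK : ↥(RG K m)) : ↥(RG K m) ⧸ RB K m) =
      ((uT K hK t u v * nT K hK : ↥(RG K m)) : ↥(RG K m) ⧸ RB K m)) :
    x * x = 1 := by
  rw [MulAction.Quotient.smul_coe, QuotientGroup.eq, smul_eq_mul] at h
  have h3 := inv_mem h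
  rw [mul_inv_rev, inv_inv, mem_RB K hK] at h3
  obtain ⟨t', u', v', y, hy⟩ := (mem_B_iff K hK _).1 h3
  obtain ⟨a, b, c, hc⟩ := tor_uEl_swap K hK y t' u' v'
  obtain ⟨y', hy'⟩ := nG_conj_tor K hK y
  obtain ⟨t₁, u₁, v₁, h₁⟩ := tor_uEl_comm K hK x t u v
  have e : uEl K m t₁ u₁ v₁ * tor K m x * nG K hK * uEl K m 0 0 0 =
      uEl K m t u v * tor K m y' * nG K hK * uEl K m a b c := by
    rw [uEl_one K hK, mul_one, ← h₁, ← hy']
    have e2 : tor K m x * (uEl K m t u v * nG K hK) = uEl K m t u v * nG K hK *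
        ((((uT K hK t u v * nT K hK)⁻¹ * (tT K hK x * (uT K hK t u v * nT K hK))) : ↥(RG K m)) :
          GL chevG2.Idx K) := by
      push_cast
      show _ = uEl K m t u v * nG K hK * ((uEl K m t u v * nG K hK)⁻¹ * (tor K m x * (uEl K m t u v * nG K hK)))
      rw [mul_inv_cancel_left]
    rw [mul_assoc, e2, hy, hc]
    simp [mul_assoc]
  obtain ⟨rfl, rfl, rfl, -⟩ := bruhat_unique K hK e
  obtain ⟨hx1, hx2⟩ := fix_cases K hK (x := x) h₁
  by_contra hxx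
  have hxne : x ≠ 1 := fun e => hxx (by rw [e, mul_one])
  obtain ⟨rfl, rfl⟩ := hx1 hxne
  obtain rfl := hx2 hxx
  exact hu (uEl_one K hK)

theorem exists_point {y : ↥(RG K m) ⧸ RB K m} (hy : y ≠ ((1 : ↥(RG K m)) : ↥(RG K m) ⧸ RB K m)) :
    ∃ t u v : K, y = ((uT K hK t u v * nT K hK : ↥(RG K m)) : ↥(RG K m) ⧸ RB K m) := by
  obtain ⟨b, rfl⟩ := QuotientGroup.mk_surjective y
  rcases bruhat K hK (inv_mem b.2) with h | ⟨t, u, v, x, t', u', v', e⟩
  · exfalso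
    apply hy
    rw [QuotientGroup.eq, mul_one, mem_RB K hK]
    exact h
  · obtain ⟨a, b', c, hc⟩ := uEl_inv K hK t' u' v'
    refine ⟨a, b', c, ?_⟩
    rw [QuotientGroup.eq]
    have e2 : b⁻¹ * (uT K hK a b' c * nT K hK) = uT K hK t u v * tT K hK x * (nT K hK * nT K hK) := by
      refine Subtype.ext ?_
      push_cast
      rw [e]
      show uEl K m t u v * tor K m x * nG K hK * uEl K m t' u' v' * (uEl K m a b' c * nG K hK) =
        uEl K m t u v * tor K m x * (nG K hK * nG K hK)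
      rw [← hc]
      simp [mul_assoc]
    rw [e2]
    refine mul_mem ?_ (nn_mem K hK)
    rw [mem_RB K hK]
    exact (mem_B_iff K hK _).2 ⟨t, u, v, x, rfl⟩

theorem point_ne (t u v : K) :
    ((uT K hK t u v * nT K hK : ↥(RG K m)) : ↥(RG K m) ⧸ RB K m) ≠ ((1 : ↥(RG K m)) : ↥(RG K m) ⧸ RB K m) := by
  intro h
  rw [QuotientGroup.eq, mul_one, inv_mem_iff, mem_RB K hK] at h
  have := not_mem_B K hK t u v 1 0 0 0
  rw [map_one, mul_one, uEl_one K hK, mul_one] at this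
  exact this h

theorem card_stab_three (x y z : ↥(RG K m) ⧸ RB K m) (hxy : x ≠ y) (hxz : x ≠ z) (hyz : y ≠ z) :
    Nat.card ↥(MulAction.stabilizer ↥(RG K m) x ⊓ MulAction.stabilizer ↥(RG K m) y ⊓
      MulAction.stabilizer ↥(RG K m) z) ≤ 2 := by
  classical
  obtain ⟨a, rfl⟩ := QuotientGroup.mk_surjective x
  have hsmul : ∀ g b : ↥(RG K m), g • ((b : ↥(RG K m)) : ↥(RG K m) ⧸ RB K m) =
      ((g * b : ↥(RG K m)) : ↥(RG K m) ⧸ RB K m) := fun g b => MulAction.Quotient.smul_coe _ _ _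
  have hy' : a⁻¹ • y ≠ ((1 : ↥(RG K m)) : ↥(RG K m) ⧸ RB K m) := fun h => hxy (by
    rw [← smul_inv_smul a y, h, hsmul, mul_one])
  obtain ⟨t, u, v, e⟩ := exists_point K hK hy'
  set g : ↥(RG K m) := a * uT K hK t u v
  have hgy : y = ((g * nT K hK : ↥(RG K m)) : ↥(RG K m) ⧸ RB K m) := by
    rw [← smul_inv_smul a y, e, hsmul]
    simp [g, mul_assoc]
  have hgx : ((a : ↥(RG K m)) : ↥(RG K m) ⧸ RB K m) = ((g : ↥(RG K m)) : ↥(RG K m) ⧸ RB K m) := by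
    rw [QuotientGroup.eq, mem_RB K hK]
    exact (mem_B_iff K hK _).2 ⟨t, u, v, 1, by simp [g, uT]⟩
  have hz1 : g⁻¹ • z ≠ ((1 : ↥(RG K m)) : ↥(RG K m) ⧸ RB K m) := fun h => hxz (by
    rw [← smul_inv_smul g z, h, hsmul, mul_one, hgx])
  obtain ⟨t₂, u₂, v₂, e₂⟩ := exists_point K hK hz1
  have hu2 : uEl K m t₂ u₂ v₂ ≠ 1 := by
    intro h
    apply hyz
    rw [← smul_inv_smul g z, e₂, hsmul, hgy]
    congr 1
    have : uT K hK t₂ u₂ v₂ = 1 := Subtype.ext h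
    rw [this, one_mul]
  have key : ∀ h ∈ MulAction.stabilizer ↥(RG K m) ((a : ↥(RG K m)) : ↥(RG K m) ⧸ RB K m) ⊓
      MulAction.stabilizer ↥(RG K m) y ⊓ MulAction.stabilizer ↥(RG K m) z,
      ∃ w : Kˣ, w * w = 1 ∧ h = g * tT K hK w * g⁻¹ := by
    intro h hh
    obtain ⟨hh', h3⟩ := Subgroup.mem_inf.1 hh
    obtain ⟨h1, h2⟩ := Subgroup.mem_inf.1 hh'
    rw [MulAction.mem_stabilizer_iff] at h1 h2 h3
    have conv : ∀ b : ↥(RG K m), h • ((g * b : ↥(RG K m)) : ↥(RG K m) ⧸ RB K m) =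
        ((g * b : ↥(RG K m)) : ↥(RG K m) ⧸ RB K m) →
        (g⁻¹ * h * g) • ((b : ↥(RG K m)) : ↥(RG K m) ⧸ RB K m) = ((b : ↥(RG K m)) : ↥(RG K m) ⧸ RB K m) := by
      intro b hb
      have := congrArg (g⁻¹ • ·) hb
      simpa [hsmul, mul_assoc] using this
    obtain ⟨w, hw⟩ := fix_base K hK (h := g⁻¹ * h * g) (conv 1 (by rw [mul_one, ← hgx]; exact h1))
      (conv _ (by rw [← hgy]; exact h2))
    refine ⟨w, fix_third K hK hu2 (x := w) ?_, by rw [← hw]; simp [mul_assoc]⟩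
    rw [← hw]
    refine conv _ ?_
    rw [← hsmul, ← e₂, smul_inv_smul]
    exact h3
  choose f hf1 hf2 using key
  refine le_trans (Nat.card_le_card_of_injective
    (fun h => (⟨f h.1 h.2, (pow_two (f h.1 h.2)).trans (hf1 h.1 h.2)⟩ : {w : Kˣ // w ^ 2 = 1}))
    fun h h' e => Subtype.ext ?_) ?_
  · rw [hf2 h.1 h.2, hf2 h'.1 h'.2, show f h.1 h.2 = f h'.1 h'.2 from congrArg Subtype.val e]
  · exact le_of_eq (card_pow_eq_one_of_dvd (by
      rw [hK]; have : 3 ^ (2 * m + 1) % 2 = 1 := by rw [Nat.pow_mod]; simp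
      omega))

theorem exists_stab_three : ∃ x y z : ↥(RG K m) ⧸ RB K m, x ≠ y ∧ x ≠ z ∧ y ≠ z ∧
    Nat.card ↥(MulAction.stabilizer ↥(RG K m) x ⊓ MulAction.stabilizer ↥(RG K m) y ⊓
      MulAction.stabilizer ↥(RG K m) z) = 2 := by
  classical
  haveI := charG2 hK
  set x : ↥(RG K m) ⧸ RB K m := ((1 : ↥(RG K m)) : ↥(RG K m) ⧸ RB K m)
  set y : ↥(RG K m) ⧸ RB K m := ((nT K hK : ↥(RG K m)) : ↥(RG K m) ⧸ RB K m)
  set z : ↥(RG K m) ⧸ RB K m := ((uT K hK 0 1 0 * nT K hK : ↥(RG K m)) : ↥(RG K m) ⧸ RB K m)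
  have hu0 : uT K hK 0 0 0 = 1 := Subtype.ext (uEl_one K hK)
  have hxy : x ≠ y := fun h => point_ne K hK 0 0 0 (by rw [hu0, one_mul]; exact h.symm)
  have hxz : x ≠ z := fun h => point_ne K hK 0 1 0 h.symm
  have hyz : y ≠ z := by
    intro h
    have h' := QuotientGroup.eq.1 h
    rw [mem_RB K hK] at h'
    obtain ⟨t, u, v, w, hw⟩ := (mem_B_iff K hK _).1 h'
    obtain ⟨a, b, c, hc⟩ := tor_uEl_swap K hK w t u v
    obtain ⟨w', hw'⟩ := nG_conj_tor K hK w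
    have e : uEl K m 0 1 0 * tor K m 1 * nG K hK * uEl K m 0 0 0 =
        uEl K m 0 0 0 * tor K m w' * nG K hK * uEl K m a b c := by
      rw [map_one, mul_one, uEl_one K hK, mul_one, one_mul, ← hw']
      have e2 : uEl K m 0 1 0 * nG K hK = nG K hK *
          ((((nT K hK)⁻¹ * (uT K hK 0 1 0 * nT K hK)) : ↥(RG K m)) : GL chevG2.Idx K) := by
        push_cast
        show _ = nG K hK * ((nG K hK)⁻¹ * (uEl K m 0 1 0 * nG K hK))
        rw [mul_inv_cancel_left]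
      rw [e2, hw, hc]
      simp [mul_assoc]
    exact one_ne_zero (bruhat_unique K hK e).2.1
  refine ⟨x, y, z, hxy, hxz, hyz, le_antisymm (card_stab_three K hK x y z hxy hxz hyz) ?_⟩
  set Sx := MulAction.stabilizer ↥(RG K m) x ⊓ MulAction.stabilizer ↥(RG K m) y ⊓
      MulAction.stabilizer ↥(RG K m) z
  have hmem : tT K hK (-1) ∈ Sx := by
    have hB : tT K hK (-1) ∈ RB K m := by
      rw [mem_RB K hK]
      exact (mem_B_iff K hK _).2 ⟨0, 0, 0, -1, by rw [uEl_one K hK, one_mul]; rfl⟩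
    have hn : Commute (tT K hK (-1)) (nT K hK) :=
      Subtype.ext (mul_inv_eq_iff_eq_mul.1 (nG_conj_negOne K hK)).symm
    have hu : Commute (tT K hK (-1)) (uT K hK 0 1 0) := Subtype.ext (negOne_commute K hK 1).eq
    have fixes : ∀ b : ↥(RG K m), Commute (tT K hK (-1)) b →
        tT K hK (-1) ∈ MulAction.stabilizer ↥(RG K m) ((b : ↥(RG K m)) : ↥(RG K m) ⧸ RB K m) := by
      intro b hb
      rw [MulAction.mem_stabilizer_iff, MulAction.Quotient.smul_coe, QuotientGroup.eq, smul_eq_mul, hb.eq,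
        mul_inv_rev, mul_assoc, inv_mul_cancel, mul_one]
      exact inv_mem hB
    exact Subgroup.mem_inf.2 ⟨Subgroup.mem_inf.2 ⟨fixes 1 (Commute.one_right _), fixes _ hn⟩,
      fixes _ (hu.mul_right hn)⟩
  have hne : (⟨tT K hK (-1), hmem⟩ : ↥Sx) ≠ 1 := by
    intro h
    have h1 : tor K m (-1) = 1 := congrArg (fun g : ↥Sx => ((g : ↥(RG K m)) : GL chevG2.Idx K)) h
    have h2 : (-1 : K) = 1 := by
      simpa using congrArg Units.val (tor_injective K hK (h1.trans (map_one (tor K m)).symm))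
    exact (Ring.neg_one_ne_one_of_char_ne_two (R := K) (by rw [ringChar.eq K 3]; decide)) h2
  haveI : Nontrivial ↥Sx := ⟨⟨_, _, hne⟩⟩
  exact Finite.one_lt_card

/-- Two distinct Sylow 3-subgroups meet trivially. -/
theorem sylow_three_ti (P Q : Sylow 3 ↥(RG K m)) (hPQ : P ≠ Q) :
    (P : Subgroup ↥(RG K m)) ⊓ (Q : Subgroup ↥(RG K m)) = ⊥ := by
  classical
  haveI : Fact (Nat.Prime 3) := ⟨Nat.prime_three⟩
  set U : Subgroup ↥(RG K m) := (chevG2.posUnipotent K ⊓ twistedG2 K (3 ^ m)).subgroupOf (RG K m)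
  have hUc : Nat.card U = 3 ^ (3 * (2 * m + 1)) := by
    rw [Nat.card_congr (Subgroup.subgroupOfEquivOfLe inf_le_right).toEquiv, card_posUnipotentG2 hK, ← pow_mul]
    congr 1
    ring
  obtain ⟨S, hS⟩ := (IsPGroup.of_card hUc : IsPGroup 3 U).exists_le_sylow
  have hSU : U = (S : Subgroup ↥(RG K m)) := by
    refine Subgroup.eq_of_le_of_card_ge hS ?_
    obtain ⟨k, hk⟩ := S.isPGroup'.exists_card_eq
    rw [hUc, hk]
    refine Nat.pow_le_pow_right (by norm_num) ?_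
    by_contra hcon
    have hd : 3 ^ (3 * (2 * m + 1) + 1) ∣ Nat.card ↥(RG K m) :=
      (pow_dvd_pow 3 (by omega)).trans (hk ▸ Subgroup.card_subgroup_dvd_card _)
    rw [ChevTwOrd.order_G2 hK, ← pow_mul, mul_comm 3 (2 * m + 1), pow_succ, mul_assoc,
      Nat.mul_dvd_mul_iff_left (pow_pos (by norm_num) _)] at hd
    have h3 : 3 ∣ 3 ^ (2 * m + 1) := dvd_pow_self 3 (by omega)
    rcases (Nat.prime_three.dvd_mul).1 hd with h | h
    · have := pow_pos (show 0 < 3 by norm_num) (2 * m + 1)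
      omega
    · have h9 : 3 ∣ 3 ^ ((2 * m + 1) * 3) := dvd_pow_self 3 (by omega)
      omega
  obtain ⟨c, hc⟩ := MulAction.exists_smul_eq ↥(RG K m) S P
  obtain ⟨d, hd⟩ := MulAction.exists_smul_eq ↥(RG K m) S Q
  have hconj : ∀ (c : ↥(RG K m)) (R : Sylow 3 ↥(RG K m)), c • S = R →
      ∀ a, a ∈ (R : Subgroup ↥(RG K m)) ↔ c⁻¹ * a * c ∈ U := by
    intro c R hR a
    rw [← hR, hSU, Sylow.coe_subgroup_smul, Subgroup.mem_pointwise_smul_iff_inv_smul_mem]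
    show (MulAut.conj c)⁻¹ a ∈ _ ↔ _
    rw [MulAut.conj_inv_apply]
  rcases bruhat K hK ((c⁻¹ * d).2) with hb | ⟨t, u, v, x, t', u', v', e⟩
  · exfalso
    apply hPQ
    have hN : ∀ w : ↥(RG K m), (w : GL chevG2.Idx K) ∈ chevG2.borelSubgroup K ⊓ twistedG2 K (3 ^ m) →
        ∀ a ∈ U, w * a * w⁻¹ ∈ U := by
      intro w hw a ha
      rw [Subgroup.mem_subgroupOf] at ha ⊢
      obtain ⟨t, u, v, x, e⟩ := (mem_B_iff K hK _).1 hw
      obtain ⟨t₁, u₁, v₁, e₁⟩ := (mem_U_iff K hK _).1 ha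
      obtain ⟨a', b', c', hab⟩ := tor_uEl_comm K hK x t₁ u₁ v₁
      push_cast
      rw [e, e₁, mul_assoc (uEl K m t u v) (tor K m x), hab, mul_inv_rev]
      simp only [mul_assoc, mul_inv_cancel_left]
      exact mul_mem (uEl_mem K hK t u v) (mul_mem (uEl_mem K hK a' b' c') (inv_mem (uEl_mem K hK t u v)))
    refine Sylow.ext (Subgroup.ext fun a => ?_)
    rw [hconj c P hc, hconj d Q hd]
    constructor
    · intro h
      have := hN (c⁻¹ * d)⁻¹ (by rw [Subgroup.coe_inv]; exact inv_mem hb) _ h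
      simpa [mul_assoc] using this
    · intro h
      have := hN _ hb _ h
      simpa [mul_assoc] using this
  · rw [eq_bot_iff]
    intro a ha
    rw [Subgroup.mem_inf, hconj c P hc, hconj d Q hd] at ha
    obtain ⟨h1, h2⟩ := ha
    rw [Subgroup.mem_subgroupOf] at h1 h2
    obtain ⟨t₁, u₁, v₁, e₁⟩ := (mem_U_iff K hK _).1 h1
    obtain ⟨t₂, u₂, v₂, e₂⟩ := (mem_U_iff K hK _).1 h2
    set w := uEl K m t' u' v' * uEl K m t₂ u₂ v₂ * (uEl K m t' u' v')⁻¹ with hw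
    have e3 : (tor K m x)⁻¹ * ((uEl K m t u v)⁻¹ * uEl K m t₁ u₁ v₁ * uEl K m t u v) * tor K m x =
        nG K hK * w * (nG K hK)⁻¹ := by
      have e4 : uEl K m t₁ u₁ v₁ = ((c⁻¹ * d : ↥(RG K m)) : GL chevG2.Idx K) * uEl K m t₂ u₂ v₂ *
          ((c⁻¹ * d : ↥(RG K m)) : GL chevG2.Idx K)⁻¹ := by
        rw [← e₁, ← e₂]
        push_cast
        simp [mul_assoc]
      rw [e4, e, hw]
      simp [mul_assoc]
    set a' := (uEl K m t u v)⁻¹ * uEl K m t₁ u₁ v₁ * uEl K m t u v with ha'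
    have hU' : a' ∈ chevG2.posUnipotent K ⊓ twistedG2 K (3 ^ m) :=
      mul_mem (mul_mem (inv_mem (uEl_mem K hK t u v)) (uEl_mem K hK t₁ u₁ v₁)) (uEl_mem K hK t u v)
    obtain ⟨t₃, u₃, v₃, e₅⟩ := (mem_U_iff K hK _).1 hU'
    have hwU : w ∈ chevG2.posUnipotent K ⊓ twistedG2 K (3 ^ m) :=
      mul_mem (mul_mem (uEl_mem K hK _ _ _) (uEl_mem K hK _ _ _)) (inv_mem (uEl_mem K hK _ _ _))
    obtain ⟨t₄, u₄, v₄, e₆⟩ := (mem_U_iff K hK _).1 hwU
    have hB : (tor K m x)⁻¹ * a' * tor K m x ∈ chevG2.borelSubgroup K ⊓ twistedG2 K (3 ^ m) := by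
      have hT : tor K m x ∈ chevG2.borelSubgroup K ⊓ twistedG2 K (3 ^ m) :=
        (mem_B_iff K hK _).2 ⟨0, 0, 0, x, by rw [uEl_one K hK, one_mul]⟩
      exact mul_mem (mul_mem (inv_mem hT) ((mem_B_iff K hK _).2 ⟨t₃, u₃, v₃, 1, by rw [map_one, mul_one, e₅]⟩)) hT
    rw [e3, e₆] at hB
    have hw1 : uEl K m t₄ u₄ v₄ = 1 := by_contra fun h => nG_uEl_notMem K hK h hB
    rw [← e₆] at hw1
    rw [hw1, mul_one, mul_inv_cancel] at e3
    have ha1 : uEl K m t₁ u₁ v₁ = 1 := by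
      have e7 : a' = 1 := by
        have := congrArg (fun z => tor K m x * z * (tor K m x)⁻¹) e3
        simpa [mul_assoc] using this
      rw [ha'] at e7
      have := congrArg (fun z => uEl K m t u v * z * (uEl K m t u v)⁻¹) e7
      simpa [mul_assoc] using this
    rw [ha1] at e₁
    rw [Subgroup.mem_bot]
    have e9 : c⁻¹ * a * c = 1 := Subtype.ext e₁
    have := congrArg (fun z => c * z * c⁻¹) e9
    simpa [mul_assoc] using this

end Cfsg.Agent.ReeG2
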