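import Cfsg.Agent.Spectrum.Linear
import Mathlib

/-!
Sylow subgroups of `GL₇(q)` at primitive prime divisors of `q⁶ - 1` are cyclic (owner: helper34).
-/

set_option autoImplicit false

namespace Cfsg.Agent.ReeG2

open Matrix

/-- A prime `p > 3` dividing `q² - q + 1` divides no `q^i - 1` with `0 < i ≤ 7`, `i ≠ 6`. -/
theorem not_dvd_pow_sub_one {q p : ℕ} (hp : p.Prime) (hp3 : 3 < p) (hq : 1 ≤ q)
    (h : p ∣ q ^ 2 - q + 1) {i : ℕ} (hi : 0 < i) (hi7 : i ≤ 7) (hi6 : i ≠ 6) : ¬ p ∣ q ^ i - 1 := by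
  haveI := Fact.mk hp
  intro hd
  have hqq : q ≤ q ^ 2 := Nat.le_self_pow two_ne_zero q
  have h1 : (q : ZMod p) ^ 2 - q + 1 = 0 := by
    have := (ZMod.natCast_eq_zero_iff _ p).2 h
    push_cast [Nat.cast_sub hqq] at this
    exact this
  have h2 : (q : ZMod p) ^ i = 1 := by
    have := (ZMod.natCast_eq_zero_iff _ p).2 hd
    push_cast [Nat.cast_sub (Nat.one_le_pow i q hq)] at this
    exact sub_eq_zero.1 this
  have h3 : (q : ZMod p) ^ 3 = -1 := by linear_combination ((q : ZMod p) + 1) * h1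
  have hone : (q : ZMod p) ≠ 1 := by
    intro e
    rw [e] at h1
    exact one_ne_zero (show (1 : ZMod p) = 0 by linear_combination h1)
  have hne2 : (2 : ZMod p) ≠ 0 := by
    intro e
    exact absurd (Nat.le_of_dvd two_pos ((ZMod.natCast_eq_zero_iff 2 p).1 (by exact_mod_cast e))) (by omega)
  have hne3 : (3 : ZMod p) ≠ 0 := by
    intro e
    exact absurd (Nat.le_of_dvd three_pos ((ZMod.natCast_eq_zero_iff 3 p).1 (by exact_mod_cast e))) (by omega)
  have hq2 : (q : ZMod p) ^ 2 ≠ 1 := by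
    intro e
    exact hne3 (by linear_combination ((q : ZMod p) + 2) * h1 - ((q : ZMod p) + 1) * e)
  interval_cases i
  · exact hone (by simpa using h2)
  · exact hq2 h2
  · exact hne2 (by linear_combination h3 - h2)
  · exact hne3 (by linear_combination h1 - ((q : ZMod p) - 2) * ((q : ZMod p) * h3 - h2))
  · exact one_ne_zero (show (1 : ZMod p) = 0 by
      linear_combination h1 - ((q : ZMod p) - 1) * ((q : ZMod p) ^ 2 * h3 - h2 - h1))
  · exact absurd rfl hi6
  · exact hone (by linear_combination h2 - (q : ZMod p) * ((q : ZMod p) ^ 3 - 1) * h3)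

theorem factorization_pow_mul_sub {q p : ℕ} (hp : p.Prime) (hpq : ¬ p ∣ q) (hq : 2 ≤ q) {j : ℕ}
    (hj : j < 7) : (q ^ 7 - q ^ j).factorization p = (q ^ (7 - j) - 1).factorization p := by
  have e : q ^ 7 - q ^ j = q ^ j * (q ^ (7 - j) - 1) := by
    rw [Nat.mul_sub, mul_one, ← pow_add]
    congr 2
    omega
  have hne : q ^ (7 - j) - 1 ≠ 0 := by
    have : 2 ≤ q ^ (7 - j) := hq.trans (Nat.le_self_pow (by omega) q)
    omega
  rw [e, Nat.factorization_mul (pow_ne_zero _ (by omega)) hne, Finsupp.add_apply,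
    Nat.factorization_pow, Finsupp.smul_apply, Nat.factorization_eq_zero_of_not_dvd hpq,
    smul_zero, zero_add]

/-- In `GL₇(q)` a `p`-subgroup is cyclic when `p > 3` divides `q² - q + 1`. -/
theorem isCyclic_of_isPGroup_GL_seven {K : Type*} [Field K] [Fintype K] {p : ℕ} [Fact p.Prime]
    (hp3 : 3 < p) (h : p ∣ Fintype.card K ^ 2 - Fintype.card K + 1)
    {P : Subgroup (GL (Fin 7) K)} (hP : IsPGroup p P) : IsCyclic P := by
  classical
  have hp : p.Prime := Fact.out
  set q := Fintype.card K with hq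
  have hq2 : 2 ≤ q := Fintype.one_lt_card
  have hpq : ¬ p ∣ q := by
    intro hd
    have h2 : p ∣ q ^ 2 - q := Nat.dvd_sub (dvd_pow hd two_ne_zero) hd
    exact hp.one_lt.ne' (Nat.dvd_one.1 ((Nat.dvd_add_right h2).1 h))
  have hfac : ∀ i, 0 < i → i ≤ 7 → i ≠ 6 → (q ^ i - 1).factorization p = 0 := fun i h0 h7 h6 =>
    Nat.factorization_eq_zero_of_not_dvd (not_dvd_pow_sub_one hp hp3 (by omega) h h0 h7 h6)
  have hcard : (Nat.card (GL (Fin 7) K)).factorization p = (q ^ 6 - 1).factorization p := by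
    rw [Matrix.card_GL_field (𝔽 := K) 7, Nat.factorization_prod (fun i _ => by
      have : q ^ (i : ℕ) < q ^ 7 := Nat.pow_lt_pow_right (by omega) i.2
      exact Nat.sub_ne_zero_of_lt this)]
    rw [Finsupp.finset_sum_apply, Finset.sum_congr rfl (fun i _ => factorization_pow_mul_sub hp hpq hq2 i.2),
      Fin.sum_univ_seven]
    simp [hfac 7, hfac 5, hfac 4, hfac 3, hfac 2]
    simpa using hfac 1 one_pos (by norm_num) (by norm_num)
  obtain ⟨M, hM, hord⟩ := Spectrum.exists_orderOf_eq_pow_sub_one (F := K) (n := 7) (d := 6) (by norm_num) (by norm_num)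
  let g : GL (Fin 7) K := Matrix.GeneralLinearGroup.mkOfDetNeZero M hM
  have hgord : orderOf g = q ^ 6 - 1 := by
    rw [← orderOf_units]; exact hord
  set a := (q ^ 6 - 1).factorization p
  have hdvd : p ^ a ∣ orderOf g := hgord ▸ Nat.ordProj_dvd _ p
  have hpos : 0 < orderOf g := orderOf_pos g
  let z := g ^ (orderOf g / p ^ a)
  have hz : orderOf z = p ^ a := orderOf_pow_orderOf_div hpos.ne' hdvd
  obtain ⟨S, hS⟩ := (IsPGroup.of_card (n := a) (by rw [Nat.card_zpowers, hz]) :
    IsPGroup p (Subgroup.zpowers z)).exists_le_sylow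
  have hSeq : Subgroup.zpowers z = (S : Subgroup (GL (Fin 7) K)) :=
    Subgroup.eq_of_le_of_card_ge hS (by rw [S.card_eq_multiplicity, hcard, Nat.card_zpowers, hz])
  obtain ⟨T, hT⟩ := hP.exists_le_sylow
  haveI : IsCyclic (Subgroup.zpowers z) := inferInstance
  have hScyc : IsCyclic (S : Subgroup (GL (Fin 7) K)) := hSeq ▸ inferInstance
  have hTcyc : IsCyclic (T : Subgroup (GL (Fin 7) K)) :=
    isCyclic_of_surjective (Sylow.equiv S T) (Sylow.equiv S T).surjective
  exact isCyclic_of_surjective (Subgroup.subgroupOfEquivOfLe hT).toMonoidHom (Subgroup.subgroupOfEquivOfLe hT).surjective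

end Cfsg.Agent.ReeG2
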