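import Cfsg.Agent.ReeG2.Cyclotomic
import Cfsg.Agent.ChevTw.IsogenyTables
import Cfsg.Agent.Chev.Rules

/-!
The seven-dimensional representation of `G₂` in characteristic three (owner: helper34).
-/

set_option autoImplicit false

namespace Cfsg.Agent.ReeG2

open Cfsg.Lie Cfsg.Agent.ChevTw Cfsg.Agent.ChevGrp

variable (K : Type*) [Field K] [CharP K 3]

/-- The rules for `G₂`. -/
theorem rulesG2 : Rules chevG2 K := Cfsg.Agent.Chev.rules_of_mem K (by simp)

/-- The coordinates of the invariant subspace. -/
def inCoord : Fin 7 → Fin (chevG2.rank + chevG2.nroots) :=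
  ![⟨0, by decide⟩, ⟨4, by decide⟩, ⟨5, by decide⟩, ⟨6, by decide⟩, ⟨9, by decide⟩, ⟨10, by decide⟩,
    ⟨11, by decide⟩]

theorem inCoord_inj : Function.Injective inCoord := by decide

theorem inCoord_iff : ∀ a : Fin (chevG2.rank + chevG2.nroots),
    isoG2.inIdx a = true ↔ ∃ i, inCoord i = a := by decide

/-- The action on the invariant subspace in seven coordinates. -/
noncomputable def sevenMat : ↥(chevG2.group K) →* Matrix (Fin 7) (Fin 7) K where
  toFun g := (subHom isoG2_ok K g).submatrix inCoord inCoord
  map_one' := by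
    rw [map_one, Matrix.submatrix_one _ inCoord_inj]
  map_mul' g g' := by
    rw [map_mul]
    ext i j
    simp only [Matrix.submatrix_apply, Matrix.mul_apply]
    refine ((Finset.sum_of_injOn (s := Finset.univ) (t := Finset.univ) inCoord (fun a _ b _ h => inCoord_inj h) (by simp) ?_ ?_)).symm
    · intro c _ hc
      have hc' : isoG2.inIdx c = false := by
        rw [← Bool.not_eq_true, inCoord_iff]
        rintro ⟨k, rfl⟩
        exact hc ⟨k, by simp, rfl⟩
      have hi : isoG2.inIdx (inCoord i) = true := (inCoord_iff _).2 ⟨i, rfl⟩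
      have h1 : ¬ inCoord i = c := fun e => by rw [e, hc'] at hi; exact Bool.noConfusion hi
      show subBlock isoG2 _ (inCoord i) c * _ = 0
      simp [subBlock, hc', h1]
    · intro k _; rfl

theorem sevenMat_injective : Function.Injective (sevenMat K) := by
  rw [injective_iff_map_eq_one]
  intro g hg
  refine Subtype.ext (faithful_of_rules isoG2_ok (rulesG2 K) ⟨0, by decide, by decide⟩ g.1 g.2 ?_)
  ext a b
  by_cases hab : isoG2.inIdx a = true ∧ isoG2.inIdx b = true
  · obtain ⟨i, rfl⟩ := (inCoord_iff a).1 hab.1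
    obtain ⟨j, rfl⟩ := (inCoord_iff b).1 hab.2
    have := congrFun (congrFun hg i) j
    show subBlock isoG2 (numMat chevG2 K g.1) (inCoord i) (inCoord j) = _
    refine this.trans ?_
    simp [Matrix.one_apply, inCoord_inj.eq_iff]
  · simp only [subBlock, Matrix.of_apply, Matrix.one_apply]
    rw [if_neg]
    simpa [Bool.and_eq_true] using hab

/-- A `p`-subgroup of `G₂(q)`, `q` a power of three, is cyclic when `p > 3` divides `q² - q + 1`. -/
theorem isCyclic_of_isPGroup_G2 [Fintype K] {p : ℕ} [Fact p.Prime] (hp3 : 3 < p)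
    (h : p ∣ Fintype.card K ^ 2 - Fintype.card K + 1) {P : Subgroup ↥(chevG2.group K)}
    (hP : IsPGroup p P) : IsCyclic P := by
  let f : ↥(chevG2.group K) →* GL (Fin 7) K := (sevenMat K).toHomUnits
  have hf : Function.Injective f := fun a b e => sevenMat_injective K (congrArg Units.val e)
  have hc := isCyclic_of_isPGroup_GL_seven hp3 h (P := P.map f) (hP.map f)
  exact isCyclic_of_surjective (P.equivMapOfInjective f hf).symm.toMonoidHom
    (P.equivMapOfInjective f hf).symm.surjective

end Cfsg.Agent.ReeG2
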