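import Cfsg.Agent.ReeG2.Seven
import Cfsg.Agent.ChevTw.TwIso
import Cfsg.Prelude.Def_LieTwisted

/-!
The product law of the unipotent words of `²G₂` (owner: helper34).
-/

set_option autoImplicit false

namespace Cfsg.Agent.ReeG2

open Cfsg.Lie Cfsg.Agent.ChevGrp Cfsg.Agent.ChevTw

section

variable {K : Type*} [Field K] {G : Type*} [Group G] (S : Sys chevG2 K G)

theorem comm76 [CharP K 3] (t u : K) : S.x 6 u * S.x 7 t = S.x 7 t * S.x 6 u *
    (S.x 8 (t * u) * (S.x 9 (t ^ 2 * u) * (S.x 10 (-(t ^ 3 * u)) * S.x 11 (-(t ^ 3 * u ^ 2))))) := by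
  have e : chevG2.commTerms 7 6 = [(8, -1, 1, 1), (9, 1, 2, 1), (10, 1, 3, 1), (11, 1, 3, 2)] := by
    decide +kernel
  rw [S.comm 7 (by decide) 6 (by decide) (by decide) (by decide) t u]
  simp only [ChevalleyDatum.commWord, e, List.map_cons, List.map_nil, List.prod_cons, List.prod_nil,
    mul_one]
  congr 1
  push_cast
  simp only [pow_one]
  congr 2
  · ring
  congr 1
  · congr 1
    ring
  congr 2 <;> ring_nf

theorem comm78 [CharP K 3] (t u : K) : S.x 8 u * S.x 7 t = S.x 7 t * (S.x 8 u * S.x 9 (-(t * u))) := by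
  have e : chevG2.commTerms 7 8 = [(9, -2, 1, 1), (10, -3, 2, 1), (11, 3, 1, 2)] := by decide +kernel
  have h3 : (3 : K) = 0 := by exact_mod_cast CharP.cast_eq_zero K 3
  rw [S.comm 7 (by decide) 8 (by decide) (by decide) (by decide) t u, mul_assoc]
  simp only [ChevalleyDatum.commWord, e, List.map_cons, List.map_nil, List.prod_cons, List.prod_nil,
    mul_one]
  push_cast
  simp only [h3, neg_zero, zero_mul, S.x_zero (show 10 < chevG2.nroots by decide),
    S.x_zero (show 11 < chevG2.nroots by decide), mul_one]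
  congr 3
  linear_combination (t * u) * h3

theorem comm610 [CharP K 3] (t u : K) :
    S.x 10 u * S.x 6 t = S.x 6 t * (S.x 10 u * S.x 11 (-(t * u))) := by
  have e : chevG2.commTerms 6 10 = [(11, 1, 1, 1)] := by decide +kernel
  rw [S.comm 6 (by decide) 10 (by decide) (by decide) (by decide) t u, mul_assoc]
  simp only [ChevalleyDatum.commWord, e, List.map_cons, List.map_nil, List.prod_cons, List.prod_nil,
    mul_one]
  congr 3
  push_cast
  ring

theorem commPairs : ∀ p ∈ [(7, 10), (7, 11), (6, 8), (6, 9), (6, 11), (8, 10), (8, 11), (9, 10), (9, 11),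
    (10, 11)], p.1 < chevG2.nroots ∧ p.2 < chevG2.nroots ∧ p.2 ≠ p.1 ∧ p.2 ≠ chevG2.neg p.1 ∧
      chevG2.commTerms p.1 p.2 = [] := by decide +kernel

theorem commute_pairs {a b : ℕ} (h : (a, b) ∈ [(7, 10), (7, 11), (6, 8), (6, 9), (6, 11), (8, 10), (8, 11),
    (9, 10), (9, 11), (10, 11)]) (t u : K) : Commute (S.x a t) (S.x b u) := by
  obtain ⟨h1, h2, h3, h4, h5⟩ := commPairs (a, b) h
  exact x_commute S h1 h2 h3 h4 h5 t u

theorem commute_three [CharP K 3] {a b : ℕ} (h : (a, b) ∈ [(7, 9), (8, 9)]) (t u : K) :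
    Commute (S.x a t) (S.x b u) := by
  have h3 : (3 : K) = 0 := by exact_mod_cast CharP.cast_eq_zero K 3
  have e : chevG2.commTerms 7 9 = [(10, 3, 1, 1)] ∧ chevG2.commTerms 8 9 = [(11, 3, 1, 1)] := by
    decide +kernel
  simp only [List.mem_cons, List.not_mem_nil, or_false, Prod.mk.injEq] at h
  rcases h with ⟨rfl, rfl⟩ | ⟨rfl, rfl⟩
  · have := S.comm 7 (by decide) 9 (by decide) (by decide) (by decide) t u
    show _ = _
    simpa [ChevalleyDatum.commWord, e.1, h3, S.x_zero (show 10 < chevG2.nroots by decide)] using this.symm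
  · have := S.comm 8 (by decide) 9 (by decide) (by decide) (by decide) t u
    show _ = _
    simpa [ChevalleyDatum.commWord, e.2, h3, S.x_zero (show 11 < chevG2.nroots by decide)] using this.symm

/-- The product over the abelian part. -/
def qPart (c d x y : K) : G := S.x 8 c * (S.x 9 d * (S.x 10 x * S.x 11 y))

theorem qPart_mul [CharP K 3] (c d x y c' d' x' y' : K) :
    qPart S c d x y * qPart S c' d' x' y' = qPart S (c + c') (d + d') (x + x') (y + y') := by
  have h89 := commute_three S (a := 8) (b := 9) (by simp)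
  have p := fun {a b : ℕ} h t u => commute_pairs S (a := a) (b := b) h t u
  have h1 : Commute (S.x 9 d * (S.x 10 x * S.x 11 y)) (S.x 8 c') :=
    ((h89 c' d).mul_right ((p (by simp) c' x).mul_right (p (by simp) c' y))).symm
  have h2 : Commute (S.x 10 x * S.x 11 y) (S.x 9 d') :=
    ((p (by simp) d' x).mul_right (p (by simp) d' y)).symm
  have h3 : Commute (S.x 11 y) (S.x 10 x') := (p (by simp) x' y).symm
  simp only [qPart]
  rw [h1.mul_mul_mul_comm, S.x_add 8 (by decide), h2.mul_mul_mul_comm, S.x_add 9 (by decide),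
    h3.mul_mul_mul_comm, S.x_add 10 (by decide), S.x_add 11 (by decide)]

theorem qPart_mul_x7 [CharP K 3] (c d x y a : K) :
    qPart S c d x y * S.x 7 a = S.x 7 a * qPart S c (d - a * c) x y := by
  have h79 := commute_three S (a := 7) (b := 9) (by simp)
  have p := fun {a b : ℕ} h t u => commute_pairs S (a := a) (b := b) h t u
  have h1 : Commute (S.x 9 d * (S.x 10 x * S.x 11 y)) (S.x 7 a) :=
    ((h79 a d).mul_right ((p (by simp) a x).mul_right (p (by simp) a y))).symm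
  simp only [qPart]
  rw [mul_assoc, h1.eq, ← mul_assoc (S.x 8 c), comm78]
  simp only [mul_assoc]
  rw [← mul_assoc (S.x 9 (-(a * c))), S.x_add 9 (by decide)]
  congr 4
  ring

theorem qPart_mul_x6 [CharP K 3] (c d x y b : K) :
    qPart S c d x y * S.x 6 b = S.x 6 b * qPart S c d x (y - b * x) := by
  have p := fun {a b : ℕ} h t u => commute_pairs S (a := a) (b := b) h t u
  simp only [qPart]
  rw [mul_assoc, mul_assoc, mul_assoc, ← (p (show (6, 11) ∈ _ by simp) b y).eq, ← mul_assoc (S.x 10 x),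
    comm610]
  simp only [mul_assoc]
  rw [S.x_add 11 (by decide), ← mul_assoc (S.x 9 d) (S.x 6 b), ← (p (show (6, 9) ∈ _ by simp) b d).eq,
    mul_assoc, ← mul_assoc (S.x 8 c) (S.x 6 b), ← (p (show (6, 8) ∈ _ by simp) b c).eq, mul_assoc]
  congr 5
  ring

/-- The normal form in the positive unipotent group. -/
def uSix (a b c d x y : K) : G := S.x 7 a * (S.x 6 b * qPart S c d x y)

theorem uSix_mul [CharP K 3] (a b c d x y a' b' c' d' x' y' : K) :
    uSix S a b c d x y * uSix S a' b' c' d' x' y' =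
      uSix S (a + a') (b + b') (c + c' + a' * b) (d + d' - a' * c + a' ^ 2 * b) (x + x' - a' ^ 3 * b)
        (y + y' - a' ^ 3 * b ^ 2 - b' * x + a' ^ 3 * b * b') := by
  simp only [uSix]
  rw [mul_assoc, mul_assoc, ← mul_assoc (qPart S c d x y), qPart_mul_x7, mul_assoc,
    ← mul_assoc (S.x 6 b) (S.x 7 a'), comm76]
  rw [show S.x 8 (a' * b) * (S.x 9 (a' ^ 2 * b) * (S.x 10 (-(a' ^ 3 * b)) * S.x 11 (-(a' ^ 3 * b ^ 2)))) =
    qPart S (a' * b) (a' ^ 2 * b) (-(a' ^ 3 * b)) (-(a' ^ 3 * b ^ 2)) from rfl]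
  simp only [mul_assoc]
  rw [← mul_assoc (qPart S _ _ _ _) (qPart S c _ x y), qPart_mul, ← mul_assoc (qPart S _ _ _ _) (S.x 6 b'),
    qPart_mul_x6, mul_assoc, qPart_mul, ← mul_assoc (S.x 6 b) (S.x 6 b'), S.x_add 6 (by decide),
    ← mul_assoc (S.x 7 a) (S.x 7 a'), S.x_add 7 (by decide)]
  congr 3 <;> ring

theorem uSix_zero : uSix S (0 : K) 0 0 0 0 0 = 1 := by
  simp [uSix, qPart, S.x_zero (show 6 < chevG2.nroots by decide), S.x_zero (show 7 < chevG2.nroots by decide),
    S.x_zero (show 8 < chevG2.nroots by decide), S.x_zero (show 9 < chevG2.nroots by decide),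
    S.x_zero (show 10 < chevG2.nroots by decide), S.x_zero (show 11 < chevG2.nroots by decide)]

/-- The word of `²G₂`. -/
def reeEl (e : ℕ) (t u v : K) : G :=
  uSix S (t ^ e) t (t ^ (e + 1) + u ^ e) (t ^ (2 * e + 1) + v ^ e) u v

theorem reeEl_eq (e : ℕ) (t u v : K) :
    ((reeWordU e t u v).map fun p => S.x p.1 p.2).prod = reeEl S e t u v := by
  simp [reeWordU, reeEl, uSix, qPart, g2a, g2b, g2ab, g2aab, g2aaab, g2aaabb]

theorem reeEl_one {e : ℕ} (he : e ≠ 0) : reeEl S e (0 : K) 0 0 = 1 := by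
  rw [← uSix_zero S]
  simp [reeEl, zero_pow he, zero_pow (show 2 * e + 1 ≠ 0 by omega)]

end

section

variable {K : Type*} [Field K] [CharP K 3] {G : Type*} [Group G] (S : Sys chevG2 K G) {m : ℕ}
  (hq : ∀ t : K, t ^ (3 * 3 ^ m * 3 ^ m) = t)

theorem odd_threePow (m : ℕ) : Odd (3 ^ m) := Odd.pow (by decide)

include hq in
theorem reeEl_mul (t u v t' u' v' : K) :
    reeEl S (3 ^ m) t u v * reeEl S (3 ^ m) t' u' v' =
      reeEl S (3 ^ m) (t + t') (u + u' - (t' ^ (3 ^ m)) ^ 3 * t)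
        (v + v' - (t' ^ (3 ^ m)) ^ 3 * t ^ 2 - t' * u + (t' ^ (3 ^ m)) ^ 3 * t * t') := by
  haveI : Fact (Nat.Prime 3) := ⟨Nat.prime_three⟩
  have hadd : ∀ x y : K, (x + y) ^ (3 ^ m) = x ^ (3 ^ m) + y ^ (3 ^ m) := fun x y => add_pow_char_pow x y 3 m
  have hsub : ∀ x y : K, (x - y) ^ (3 ^ m) = x ^ (3 ^ m) - y ^ (3 ^ m) := fun x y => sub_pow_char_pow (p := 3) (n := m) x y
  have e3 : ((t' ^ (3 ^ m)) ^ 3) ^ (3 ^ m) = t' := by
    rw [← pow_mul, ← pow_mul, show 3 ^ m * (3 * 3 ^ m) = 3 * 3 ^ m * 3 ^ m by ring, hq]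
  have h3 : (3 : K) = 0 := by exact_mod_cast CharP.cast_eq_zero K 3
  rw [reeEl, reeEl, reeEl, uSix_mul]
  congr 1
  · rw [hadd]
  · have p1 : ∀ z : K, z ^ (3 ^ m + 1) = z ^ (3 ^ m) * z := fun z => pow_succ z _
    simp only [p1, hadd, hsub, mul_pow, e3]
    ring
  · have p2 : ∀ z : K, z ^ (2 * 3 ^ m + 1) = (z ^ (3 ^ m)) ^ 2 * z := fun z => by
      rw [pow_succ, mul_comm 2, pow_mul]
    rw [p2, p2, p2, pow_succ t, hadd (v + v' - _ - _), hsub, hsub, hadd, hadd]
    simp only [mul_pow, e3]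
    rw [← pow_mul t 2, mul_comm 2 (3 ^ m), pow_mul]
    linear_combination (-(t ^ (3 ^ m) * t' ^ (3 ^ m) * (t + t'))) * h3

include hq in
/-- Powers of the elements. -/
theorem reeEl_cube (t u v : K) :
    reeEl S (3 ^ m) t u v ^ 3 = reeEl S (3 ^ m) 0 0 (-((t ^ (3 ^ m)) ^ 3 * t ^ 2)) := by
  have h3 : (3 : K) = 0 := by exact_mod_cast CharP.cast_eq_zero K 3
  rw [pow_succ, pow_two, reeEl_mul S hq, reeEl_mul S hq]
  congr 1
  · linear_combination t * h3
  · linear_combination (u - (t ^ (3 ^ m)) ^ 3 * t) * h3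
  · linear_combination (v - t * u) * h3

end

section

variable {K : Type*} [Field K] [CharP K 3] {m : ℕ}

/-- The normal form determines the coefficients. -/
theorem uSix_inj {a b c d x y a' b' c' d' x' y' : K}
    (e : uSix (glSys (rulesG2 K)) a b c d x y = uSix (glSys (rulesG2 K)) a' b' c' d' x' y') :
    a = a' ∧ b = b' ∧ c = c' ∧ d = d' ∧ x = x' ∧ y = y' := by
  obtain ⟨len, hR⟩ := (rulesG2 K).root
  have hmem : ∀ r, r < chevG2.nroots → (chevG2.IsPosRoot r ↔ r ∈ [7, 6, 8, 9, 10, 11]) := by decide +kernel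
  have hL : Enum (posSet chevG2) [7, 6, 8, 9, 10, 11] := by
    refine ⟨by decide, fun r => ⟨fun hr => (hmem r ?_).2 hr, fun hr => (hmem r hr.1).1 hr⟩⟩
    simp only [List.mem_cons, List.not_mem_nil, or_false] at hr
    show r < 12
    omega
  have h := zip_unique (S := glSys (rulesG2 K)) hR hR.posSet_closed hL (v := [a, b, c, d, x, y])
    (v' := [a', b', c', d', x', y']) rfl rfl (by simpa [uSix, qPart] using e)
  simpa using h

theorem reeEl_inj {t u v t' u' v' : K}
    (e : reeEl (glSys (rulesG2 K)) (3 ^ m) t u v = reeEl (glSys (rulesG2 K)) (3 ^ m) t' u' v') :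
    t = t' ∧ u = u' ∧ v = v' := by
  obtain ⟨-, h2, -, -, h5, h6⟩ := uSix_inj e
  exact ⟨h2, h5, h6⟩

/-- Membership in terms of matrices. -/
theorem eq_reeEl_iff (g : GL chevG2.Idx K) (t u v : K) :
    ((g : Matrix chevG2.Idx chevG2.Idx K) = chevG2.wordMat K (reeWordU (3 ^ m) t u v)) ↔
      g = reeEl (glSys (rulesG2 K)) (3 ^ m) t u v := by
  rw [← reeEl_eq]
  refine ⟨fun h => Units.ext ?_, fun h => ?_⟩
  · rw [h]; exact (val_word (rulesG2 K) _).symm
  · rw [h]; exact val_word (rulesG2 K) _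

end

end Cfsg.Agent.ReeG2
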